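import Groth.Agent.Lib.DvrCrit.Existence

/-!
# Valuation subrings versus abstract valuation rings
-/

set_option autoImplicit false
set_option backward.isDefEq.respectTransparency false
universe u
open CategoryTheory Limits AlgebraicGeometry IsLocalRing

namespace Groth.Agent.Lib.DvrCrit

variable {X S Z : Scheme.{u}} {L : Type u} [Field L] (W : ValuationSubring L)

/-- `Spec` of the field of a valuation subring mapped to the spectrum of its fraction ring. -/
noncomputable def fracIn : Spec (CommRingCat.of L) ⟶ Spec (CommRingCat.of (FractionRing W)) :=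
  Spec.map (CommRingCat.ofHom (FractionRing.algEquiv W L).toRingEquiv.toRingHom)

/-- The inverse of `fracIn`. -/
noncomputable def fracOut : Spec (CommRingCat.of (FractionRing W)) ⟶ Spec (CommRingCat.of L) :=
  Spec.map (CommRingCat.ofHom (FractionRing.algEquiv W L).symm.toRingEquiv.toRingHom)

theorem fracOut_gen :
    fracOut W ≫ gen W = Spec.map (CommRingCat.ofHom (algebraMap W (FractionRing W))) := by
  rw [fracOut, gen, ← Spec.map_comp]
  congr 1
  ext x
  exact (FractionRing.algEquiv W L).symm.commutes x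

theorem fracIn_algebraMap :
    fracIn W ≫ Spec.map (CommRingCat.ofHom (algebraMap W (FractionRing W))) = gen W := by
  rw [fracIn, gen, ← Spec.map_comp]
  congr 1
  ext x
  exact (FractionRing.algEquiv W L).commutes x

theorem fracIn_fracOut : fracIn W ≫ fracOut W = 𝟙 _ := by
  rw [fracIn, fracOut, ← Spec.map_comp, ← Spec.map_id]
  congr 1
  ext x
  exact (FractionRing.algEquiv W L).apply_symm_apply x

/-- The abstract lifting property gives the lifting property for valuation subrings. -/
theorem exists_lift_of_abstract (f : X ⟶ S) (j : Spec (CommRingCat.of L) ⟶ Z) (m : Z ⟶ X)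
    (φ : Spec (CommRingCat.of W) ⟶ S) (w : gen W ≫ φ = j ≫ m ≫ f)
    (H : ∀ (u : Spec (CommRingCat.of (FractionRing W)) ⟶ Z),
      u ≫ m ≫ f = Spec.map (CommRingCat.ofHom (algebraMap W (FractionRing W))) ≫ φ →
      ∃ l : Spec (CommRingCat.of W) ⟶ X, l ≫ f = φ ∧
        Spec.map (CommRingCat.ofHom (algebraMap W (FractionRing W))) ≫ l = u ≫ m) :
    ∃ l : Spec (CommRingCat.of W) ⟶ X, gen W ≫ l = j ≫ m ∧ l ≫ f = φ := by
  obtain ⟨l, h1, h2⟩ := H (fracOut W ≫ j) (by rw [Category.assoc, ← w, ← fracOut_gen]; simp)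
  refine ⟨l, ?_, h1⟩
  rw [← fracIn_algebraMap, Category.assoc, h2, Category.assoc, ← Category.assoc (fracIn W),
    fracIn_fracOut, Category.id_comp]

theorem fracOut_comp (j : Spec (CommRingCat.of L) ⟶ X) (l : Spec (CommRingCat.of W) ⟶ X)
    (h : gen W ≫ l = j) :
    Spec.map (CommRingCat.ofHom (algebraMap W (FractionRing W))) ≫ l = fracOut W ≫ j := by
  rw [← fracOut_gen, Category.assoc, h]

theorem uniqueness_apply {f : X ⟶ S} (h : ValuativeCriterion.Uniqueness f) {A K : Type u}
    [CommRing A] [IsDomain A] [ValuationRing A] [Field K] [Algebra A K] [IsFractionRing A K]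
    (l₁ l₂ : Spec (CommRingCat.of A) ⟶ X) (e : l₁ ≫ f = l₂ ≫ f)
    (e' : Spec.map (CommRingCat.ofHom (algebraMap A K)) ≫ l₁ =
      Spec.map (CommRingCat.ofHom (algebraMap A K)) ≫ l₂) : l₁ = l₂ := by
  let Sq : ValuativeCommSq f :=
    { R := A, K := K, i₁ := Spec.map (CommRingCat.ofHom (algebraMap A K)) ≫ l₁, i₂ := l₁ ≫ f
      commSq := ⟨Category.assoc _ _ _⟩ }
  have := h Sq
  exact congrArg CommSq.LiftStruct.l (Subsingleton.elim (α := Sq.commSq.LiftStruct)
    ⟨l₁, rfl, rfl⟩ ⟨l₂, e'.symm, e.symm⟩)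

theorem existence_apply {f : X ⟶ S} (h : ValuativeCriterion.Existence f) {A K : Type u}
    [CommRing A] [IsDomain A] [ValuationRing A] [Field K] [Algebra A K] [IsFractionRing A K]
    (x : Spec (CommRingCat.of K) ⟶ X) (y : Spec (CommRingCat.of A) ⟶ S)
    (w : x ≫ f = Spec.map (CommRingCat.ofHom (algebraMap A K)) ≫ y) :
    ∃ l : Spec (CommRingCat.of A) ⟶ X, l ≫ f = y ∧
      Spec.map (CommRingCat.ofHom (algebraMap A K)) ≫ l = x := by
  obtain ⟨l, h1, h2⟩ := (h { R := A, K := K, i₁ := x, i₂ := y, commSq := ⟨w⟩ }).exists_lift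
  exact ⟨l, h2, h1⟩

theorem uniqueness_of_isSeparated (f : X ⟶ S) [IsSeparated f] : ValuativeCriterion.Uniqueness f := by
  have h := ‹IsSeparated f›
  rw [IsSeparated.eq_valuativeCriterion] at h
  exact h.1

theorem existence_of_universallyClosed (f : X ⟶ S) [UniversallyClosed f] :
    ValuativeCriterion.Existence f := by
  have h := ‹UniversallyClosed f›
  rw [UniversallyClosed.eq_valuativeCriterion] at h
  exact h.1

end Groth.Agent.Lib.DvrCrit
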