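import Groth.Agent.Lib.DvrCrit.Algebra
import Groth.Agent.Lib.ValSquare.Dominant
import Mathlib.AlgebraicGeometry.Morphisms.FiniteType
import Mathlib.AlgebraicGeometry.Noetherian

/-!
# Valuative criteria tested on discrete valuation rings
-/

set_option autoImplicit false
set_option backward.isDefEq.respectTransparency false
universe u
open CategoryTheory Limits AlgebraicGeometry IsLocalRing

namespace Groth.Agent.Lib.DvrCrit

variable {X S Z : Scheme.{u}}

/-- The canonical morphism of the fraction field into the spectrum of a valuation subring. -/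
noncomputable abbrev gen {L : Type u} [Field L] (W : ValuationSubring L) :
    Spec (CommRingCat.of L) ⟶ Spec (CommRingCat.of W) :=
  Spec.map (CommRingCat.ofHom W.subtype)

theorem exists_chart {R : CommRingCat.{u}} [IsLocalRing R]
    (g : Spec R ⟶ X) {U : X.Opens} (hU : IsAffineOpen U)
    (h : g (closedPoint R) ∈ U) :
    ∃ χ : Γ(X, U) ⟶ R, Spec.map χ ≫ hU.fromSpec = g := by
  have hr : Set.range g ⊆ Set.range hU.fromSpec := by
    rw [hU.range_fromSpec]
    rintro _ ⟨p, rfl⟩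
    exact ((specializes_closedPoint p).map g.continuous).mem_open U.2 h
  obtain ⟨χ, hχ⟩ := Spec.map_surjective (IsOpenImmersion.lift hU.fromSpec g hr)
  exact ⟨χ, by rw [hχ, IsOpenImmersion.lift_fac]⟩

theorem chart_ext {R : CommRingCat.{u}} {U : X.Opens} (hU : IsAffineOpen U) (χ χ' : Γ(X, U) ⟶ R)
    (h : Spec.map χ ≫ hU.fromSpec = Spec.map χ' ≫ hU.fromSpec) : χ = χ' :=
  Spec.map_injective ((cancel_mono hU.fromSpec).1 h)

theorem chart_comp {R : CommRingCat.{u}} (f : X ⟶ S) {U : X.Opens} (hU : IsAffineOpen U)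
    {V : S.Opens} (hV : IsAffineOpen V) (e : U ≤ f ⁻¹ᵁ V) (χ : Γ(X, U) ⟶ R) :
    Spec.map (f.appLE V U e ≫ χ) ≫ hV.fromSpec = (Spec.map χ ≫ hU.fromSpec) ≫ f := by
  rw [Spec.map_comp, Category.assoc, IsAffineOpen.SpecMap_appLE_fromSpec f hV hU e, Category.assoc]

theorem mem_of_chart {R : CommRingCat.{u}} {U : X.Opens} (hU : IsAffineOpen U) (χ : Γ(X, U) ⟶ R)
    (p : Spec R) : (Spec.map χ ≫ hU.fromSpec) p ∈ U :=
  hU.range_fromSpec.le ⟨_, rfl⟩

/-- The image of the generic point of a point with values in a local ring of a field. -/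
theorem gen_specializes {L : Type u} [Field L] (W : ValuationSubring L)
    (φ : Spec (CommRingCat.of W) ⟶ X) (i : Spec (CommRingCat.of L) ⟶ X) (w : gen W ≫ φ = i) :
    i (closedPoint L) ⤳ φ (closedPoint W) := by
  rw [← w]
  exact (specializes_closedPoint _).map φ.continuous

theorem point_congr {Y W : Scheme.{u}} {a : Y ⟶ W} {b : W ⟶ X} {c : Y ⟶ X} (h : a ≫ b = c) (y : Y) :
    b (a y) = c y := by
  subst h; rfl

theorem fromSpecResidueField_point (z : Z) (m : Z ⟶ X) (p : Spec (Z.residueField z)) :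
    (Z.fromSpecResidueField z ≫ m) p = m z :=
  congrArg m (Scheme.fromSpecResidueField_apply z p)

theorem mem_of_point (z : Z) (m : Z ⟶ X) {U : X.Opens} (p : Spec (Z.residueField z)) (h : m z ∈ U) :
    (Z.fromSpecResidueField z ≫ m) p ∈ U :=
  (fromSpecResidueField_point z m p).symm ▸ h

/-- The residue field of a point of a scheme locally of finite type is finitely generated over the
functions on an affine open of the base. -/
theorem exists_fg (g : Z ⟶ S) [LocallyOfFiniteType g] (z : Z) {V : S.Opens} (hV : IsAffineOpen V)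
    (φ : Γ(S, V) ⟶ Z.residueField z)
    (hφ : Spec.map φ ≫ hV.fromSpec = Z.fromSpecResidueField z ≫ g) :
    ∃ s : Finset (Z.residueField z),
      Subfield.closure (Set.range φ.hom ∪ (s : Set (Z.residueField z))) = ⊤ := by
  classical
  have hzV : z ∈ g ⁻¹ᵁ V := by
    show g z ∈ V
    refine fromSpecResidueField_point z g (closedPoint (Z.residueField z)) ▸ ?_
    exact hφ ▸ mem_of_chart hV φ _
  obtain ⟨W, hW, hzW, hWV⟩ := exists_isAffineOpen_mem_and_subset (U := g ⁻¹ᵁ V) hzV
  let θ : Γ(Z, W) ⟶ Z.residueField z := Z.presheaf.germ W z hzW ≫ Z.residue z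
  have hθ : Spec.map θ ≫ hW.fromSpec = Z.fromSpecResidueField z := by
    show Spec.map (Z.presheaf.germ W z hzW ≫ Z.residue z) ≫ _ = _
    rw [Spec.map_comp, Category.assoc, Scheme.fromSpecResidueField,
      ← hW.fromSpecStalk_eq_fromSpecStalk hzW]
    rfl
  have hφθ : φ = g.appLE V W hWV ≫ θ :=
    chart_ext hV _ _ (hφ.trans ((chart_comp g hW hV hWV θ).trans (by rw [hθ])).symm)
  have hft := g.finiteType_appLE hV hW hWV
  algebraize [(g.appLE V W hWV).hom]
  obtain ⟨t, ht⟩ := (Algebra.FiniteType.out : (⊤ : Subalgebra Γ(S, V) Γ(Z, W)).FG)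
  refine ⟨t.image θ.hom, eq_top_iff.2 fun x _ => ?_⟩
  have hle : ∀ w, θ.hom w ∈
      Subfield.closure (Set.range φ.hom ∪ ((t.image θ.hom : Finset _) : Set (Z.residueField z))) := by
    intro w
    have hw : w ∈ Algebra.adjoin Γ(S, V) (t : Set Γ(Z, W)) := ht ▸ Algebra.mem_top
    induction hw using Algebra.adjoin_induction with
    | mem y hy =>
      exact Subfield.subset_closure (Or.inr (Finset.mem_coe.2 (Finset.mem_image_of_mem _ hy)))
    | algebraMap r =>
      refine Subfield.subset_closure (Or.inl ⟨r, ?_⟩)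
      rw [hφθ]
      rfl
    | add y y' _ _ h h' => rw [map_add]; exact add_mem h h'
    | mul y y' _ _ h h' => rw [map_mul]; exact mul_mem h h'
  obtain ⟨y, rfl⟩ := Z.residue_surjective z x
  letI : Algebra Γ(Z, W) (Z.presheaf.stalk z) := TopCat.Presheaf.algebra_section_stalk Z.presheaf ⟨z, hzW⟩
  haveI := hW.isLocalization_stalk ⟨z, hzW⟩
  obtain ⟨⟨a, b⟩, hab⟩ := IsLocalization.surj (hW.primeIdealOf ⟨z, hzW⟩).asIdeal.primeCompl y
  have hab' : y * (Z.presheaf.germ W z hzW).hom b = (Z.presheaf.germ W z hzW).hom a := hab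
  have hb : θ.hom b ≠ 0 := by
    have hu : IsUnit (algebraMap Γ(Z, W) (Z.presheaf.stalk z) b) := IsLocalization.map_units _ b
    exact (hu.map (Z.residue z).hom).ne_zero
  have h2 : (Z.residue z).hom y = θ.hom a / θ.hom b := by
    rw [eq_div_iff hb]
    show (Z.residue z).hom y * (Z.residue z).hom _ = (Z.residue z).hom _
    exact ((Z.residue z).hom.map_mul y _).symm.trans (congrArg (Z.residue z).hom hab')
  exact h2 ▸ div_mem (hle a) (hle b)

/-- A discrete valuation ring of the residue field centred at a strict specialization. -/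
theorem exists_dvr_center [IsLocallyNoetherian S] (g : Z ⟶ S) [LocallyOfFiniteType g] (z : Z)
    (t : S) (h : g z ⤳ t) (hne : g z ≠ t) :
    ∃ W : ValuationSubring (Z.residueField z), IsDiscreteValuationRing W ∧
      ∃ φ : Spec (CommRingCat.of W) ⟶ S, φ (closedPoint W) = t ∧
        gen W ≫ φ = Z.fromSpecResidueField z ≫ g := by
  obtain ⟨V, hV, htV, -⟩ := exists_isAffineOpen_mem_and_subset (x := t) (U := (⊤ : S.Opens)) trivial
  obtain ⟨ψ, hψ⟩ := exists_chart (Z.fromSpecResidueField z ≫ g) hV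
    (mem_of_point z g _ (h.mem_open V.2 htV))
  have : IsNoetherianRing Γ(S, V) := IsLocallyNoetherian.component_noetherian ⟨V, hV⟩
  obtain ⟨s, hs⟩ := exists_fg g z hV ψ hψ
  let q : PrimeSpectrum Γ(S, V) := hV.primeIdealOf ⟨t, htV⟩
  let pt : Spec (Z.residueField z) := closedPoint (Z.residueField z)
  let p : PrimeSpectrum Γ(S, V) := Spec.map ψ pt
  have hp : hV.fromSpec p = g z :=
    (point_congr hψ pt).trans (fromSpecResidueField_point z g pt)
  have hq : hV.fromSpec q = t := hV.fromSpec_primeIdealOf ⟨t, htV⟩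
  have hpq : p ⤳ q := hV.fromSpec.isOpenEmbedding.isInducing.specializes_iff.1 (hp.symm ▸ hq.symm ▸ h)
  have hker : RingHom.ker ψ.hom = p.asIdeal := by
    show _ = Ideal.comap ψ.hom (maximalIdeal _)
    rw [(IsLocalRing.isField_iff_maximalIdeal_eq).1 (Field.toIsField _), RingHom.ker_eq_comap_bot]
  have hlt : RingHom.ker ψ.hom < q.asIdeal := by
    rw [hker]
    refine lt_of_le_of_ne ((PrimeSpectrum.le_iff_specializes _ _).2 hpq) fun e => hne ?_
    rw [← hp, ← hq, PrimeSpectrum.ext e]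
  obtain ⟨W, hW, hmem, hcomap⟩ := exists_dvr ψ.hom s hs q.asIdeal hlt
  let ψW : Γ(S, V) ⟶ CommRingCat.of W := CommRingCat.ofHom (ψ.hom.codRestrict W.toSubring hmem)
  refine ⟨W, hW, Spec.map ψW ≫ hV.fromSpec, ?_, ?_⟩
  · have : Spec.map ψW (closedPoint W) = q := PrimeSpectrum.ext hcomap
    rw [Scheme.Hom.comp_apply, this, hq]
  · rw [← Category.assoc, ← Spec.map_comp]
    exact hψ

/-- If the discrete valuation rings of a residue field lift, then so do all valuation rings. -/
theorem exists_lift_of_dvr [IsLocallyNoetherian S] (f : X ⟶ S) [LocallyOfFiniteType f]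
    [QuasiCompact f] (m : Z ⟶ X) [LocallyOfFiniteType (m ≫ f)] (z : Z)
    (H : ∀ W : ValuationSubring (Z.residueField z), IsDiscreteValuationRing W →
      ∀ φ : Spec (CommRingCat.of W) ⟶ S, gen W ≫ φ = Z.fromSpecResidueField z ≫ m ≫ f →
      ∃ l : Spec (CommRingCat.of W) ⟶ X, gen W ≫ l = Z.fromSpecResidueField z ≫ m ∧ l ≫ f = φ)
    (R : ValuationSubring (Z.residueField z)) (φ : Spec (CommRingCat.of R) ⟶ S)
    (w : gen R ≫ φ = Z.fromSpecResidueField z ≫ m ≫ f) :
    ∃ l : Spec (CommRingCat.of R) ⟶ X, gen R ≫ l = Z.fromSpecResidueField z ≫ m ∧ l ≫ f = φ := by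
  classical
  obtain ⟨V, hV, hsV, -⟩ := exists_isAffineOpen_mem_and_subset (x := φ (closedPoint R))
    (U := (⊤ : S.Opens)) trivial
  obtain ⟨ψ, hψ⟩ := exists_chart φ hV hsV
  let ψL : Γ(S, V) ⟶ Z.residueField z := ψ ≫ CommRingCat.ofHom R.subtype
  have hψL : Spec.map ψL ≫ hV.fromSpec = Z.fromSpecResidueField z ≫ m ≫ f := by
    rw [Spec.map_comp, Category.assoc, hψ, w]
  obtain ⟨Us, hUs, hcov⟩ := (isCompact_iff_finite_and_eq_biUnion_affineOpens (U := f ⁻¹ᵁ V)).1
    (f.isCompact_preimage hV.isCompact)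
  have hsub : ∀ U ∈ Us, (U : X.Opens) ≤ f ⁻¹ᵁ V := fun U hU => hcov ▸ le_iSup₂_of_le U hU le_rfl
  have hxV : m z ∈ f ⁻¹ᵁ V := by
    show f (m z) ∈ V
    refine fromSpecResidueField_point z (m ≫ f) (closedPoint (Z.residueField z)) ▸ ?_
    exact hψL ▸ mem_of_chart hV ψL _
  by_cases hgood : ∃ U ∈ Us, ∃ χ : Γ(X, (U : X.Opens)) ⟶ Z.residueField z,
      Spec.map χ ≫ U.2.fromSpec = Z.fromSpecResidueField z ≫ m ∧ ∀ b, χ.hom b ∈ R
  · obtain ⟨U, hU, χ, hχ, hmem⟩ := hgood
    let χR : Γ(X, (U : X.Opens)) ⟶ CommRingCat.of R :=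
      CommRingCat.ofHom (χ.hom.codRestrict R.toSubring hmem)
    have e : χR ≫ CommRingCat.ofHom R.subtype = χ := rfl
    refine ⟨Spec.map χR ≫ U.2.fromSpec, ?_, ?_⟩
    · rw [← Category.assoc, ← Spec.map_comp, e, hχ]
    · rw [← chart_comp f U.2 hV (hsub U hU) χR]
      suffices f.appLE V U (hsub U hU) ≫ χR = ψ by rw [this, hψ]
      have h1 : (f.appLE V U (hsub U hU) ≫ χR) ≫ CommRingCat.ofHom R.subtype = ψL := by
        rw [Category.assoc, e]
        refine chart_ext hV _ _ ?_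
        rw [chart_comp f U.2 hV (hsub U hU) χ, hχ, hψL, Category.assoc]
      ext a
      exact congr(($h1).hom a)
  exfalso
  push Not at hgood
  let J := {U : X.affineOpens // U ∈ Us ∧ m z ∈ (U : X.Opens)}
  haveI : Finite J := (hUs.subset (fun U h => h.1) : {U | U ∈ Us ∧ m z ∈ (U : X.Opens)}.Finite).to_subtype
  haveI := Fintype.ofFinite J
  have hχ : ∀ k : J, ∃ χ : Γ(X, (k.1 : X.Opens)) ⟶ Z.residueField z,
      Spec.map χ ≫ k.1.2.fromSpec = Z.fromSpecResidueField z ≫ m := fun k =>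
    exists_chart _ k.1.2 (mem_of_point z m _ k.2.2)
  choose χ hχ using hχ
  have hbad : ∀ k : J, ∃ b, (χ k).hom b ∉ R := fun k => hgood k.1 k.2.1 (χ k) (hχ k)
  choose b hb using hbad
  have hb0 : ∀ k, (χ k).hom (b k) ≠ 0 := fun k h0 => hb k (h0 ▸ R.zero_mem)
  let i : J → R := fun k => ⟨((χ k).hom (b k))⁻¹, (R.mem_or_inv_mem _).resolve_left (hb k)⟩
  have hi : ∀ k, i k ∈ maximalIdeal R := fun k hu => by
    obtain ⟨c, hc⟩ := isUnit_iff_exists_inv.1 hu
    have hc' : ((χ k).hom (b k))⁻¹ * (c : Z.residueField z) = 1 := congrArg Subtype.val hc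
    have : (χ k).hom (b k) = c := by
      rw [← inv_inv ((χ k).hom (b k))]
      exact inv_eq_of_mul_eq_one_right hc'
    exact hb k (this ▸ c.2)
  have : IsNoetherianRing Γ(S, V) := IsLocallyNoetherian.component_noetherian ⟨V, hV⟩
  obtain ⟨s, hs⟩ := exists_fg (m ≫ f) z hV ψL hψL
  let ev : MvPolynomial J Γ(S, V) →+* R := MvPolynomial.eval₂Hom ψ.hom i
  let evL : MvPolynomial J Γ(S, V) →+* Z.residueField z := R.subtype.comp ev
  obtain ⟨U₀, hU₀, hzU₀⟩ : ∃ U ∈ Us, m z ∈ (U : X.Opens) := by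
    have := hxV
    rw [hcov] at this
    simpa using this
  let k₀ : J := ⟨U₀, hU₀, hzU₀⟩
  have hevX : ∀ k, ev (MvPolynomial.X k) = i k := fun k => MvPolynomial.eval₂Hom_X' _ _ k
  have hlt : RingHom.ker evL < (maximalIdeal R).comap ev := by
    refine lt_of_le_of_ne ?_ ?_
    · intro a ha
      rw [Ideal.mem_comap, show ev a = 0 from Subtype.ext ha]
      exact zero_mem _
    · intro e
      have h1 : MvPolynomial.X k₀ ∈ RingHom.ker evL := by
        rw [e, Ideal.mem_comap, hevX]; exact hi k₀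
      rw [RingHom.mem_ker] at h1
      change (ev (MvPolynomial.X k₀) : Z.residueField z) = 0 at h1
      rw [hevX] at h1
      exact inv_ne_zero (hb0 k₀) h1
  have hclo : Subfield.closure (Set.range evL ∪ (s : Set (Z.residueField z))) = ⊤ := by
    refine eq_top_iff.2 (hs.ge.trans (Subfield.closure_mono (Set.union_subset_union_left _ ?_)))
    rintro _ ⟨a, rfl⟩
    exact ⟨MvPolynomial.C a, congrArg Subtype.val (MvPolynomial.eval₂Hom_C ψ.hom i a)⟩
  obtain ⟨W, hW, hmemW, hcomap⟩ := exists_dvr evL s hclo ((maximalIdeal R).comap ev) hlt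
  let ψW : Γ(S, V) ⟶ CommRingCat.of W :=
    CommRingCat.ofHom ((evL.codRestrict W.toSubring hmemW).comp MvPolynomial.C)
  have hψW : ψW ≫ CommRingCat.ofHom W.subtype = ψL := by
    ext a
    exact congrArg Subtype.val (MvPolynomial.eval₂Hom_C ψ.hom i a)
  obtain ⟨l, hl1, hl2⟩ := H W hW (Spec.map ψW ≫ hV.fromSpec) (by
    rw [← Category.assoc, ← Spec.map_comp, hψW, hψL])
  have hlV : l (closedPoint W) ∈ f ⁻¹ᵁ V := by
    show (l ≫ f) (closedPoint W) ∈ V
    rw [hl2]
    exact mem_of_chart hV ψW _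
  obtain ⟨U, hU, hlU⟩ : ∃ U ∈ Us, l (closedPoint W) ∈ (U : X.Opens) := by
    have := hlV
    rw [hcov] at this
    simpa using this
  have hzU : m z ∈ (U : X.Opens) := by
    refine (?_ : m z ⤳ l (closedPoint W)).mem_open U.1.2 hlU
    refine fromSpecResidueField_point z m (closedPoint (Z.residueField z)) ▸ ?_
    exact gen_specializes W l _ hl1
  let k : J := ⟨U, hU, hzU⟩
  obtain ⟨χW, hχW⟩ := exists_chart l U.2 hlU
  have hk : χW ≫ CommRingCat.ofHom W.subtype = χ k := by
    refine chart_ext U.2 _ _ ?_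
    rw [Spec.map_comp, Category.assoc, hχW, hl1]
    exact (hχ k).symm
  have h1 : evL.codRestrict W.toSubring hmemW (MvPolynomial.X k) ∈ maximalIdeal W := by
    have : MvPolynomial.X k ∈ (maximalIdeal R).comap ev := by
      rw [Ideal.mem_comap, hevX]; exact hi k
    rwa [← hcomap] at this
  refine h1 (isUnit_iff_exists_inv.2 ⟨χW.hom (b k), Subtype.ext ?_⟩)
  show (ev (MvPolynomial.X k) : Z.residueField z) * (χW ≫ CommRingCat.ofHom W.subtype).hom (b k) = 1
  rw [hevX, hk]
  exact inv_mul_cancel₀ (hb0 k)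

/-- Separatedness from the uniqueness for discrete valuation rings of enough residue fields. -/
theorem isSeparated_of_dvr [IsLocallyNoetherian S] (f : X ⟶ S) [LocallyOfFiniteType f]
    (m : Z ⟶ X) [LocallyOfFiniteType m] (G : Z → Prop) (hG : ∀ x : X, ∃ z, G z ∧ m z ⤳ x)
    (H : ∀ z, G z → ∀ W : ValuationSubring (Z.residueField z), IsDiscreteValuationRing W →
      ∀ l₁ l₂ : Spec (CommRingCat.of W) ⟶ X, gen W ≫ l₁ = Z.fromSpecResidueField z ≫ m →
        gen W ≫ l₂ = Z.fromSpecResidueField z ≫ m → l₁ ≫ f = l₂ ≫ f → l₁ = l₂) :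
    IsSeparated f := by
  haveI : IsLocallyNoetherian X := LocallyOfFiniteType.isLocallyNoetherian f
  haveI : IsLocallyNoetherian (pullback f f) :=
    LocallyOfFiniteType.isLocallyNoetherian (pullback.fst f f)
  refine ⟨.of_isPreimmersion _ (isClosed_of_closure_subset fun p hp => ?_)⟩
  obtain ⟨x, hx⟩ := FinCond.exists_specializes_of_mem_closure_range (pullback.diagonal f) hp
  obtain ⟨z, hz, hzx⟩ := hG x
  have hsp : (m ≫ pullback.diagonal f) z ⤳ p :=
    (hzx.map (pullback.diagonal f).continuous).trans hx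
  by_cases hne : (m ≫ pullback.diagonal f) z = p
  · exact ⟨m z, hne⟩
  obtain ⟨W, hW, φ, hφ, hgen⟩ := exists_dvr_center (m ≫ pullback.diagonal f) z p hsp hne
  have e1 : gen W ≫ φ ≫ pullback.fst f f = Z.fromSpecResidueField z ≫ m := by
    rw [← Category.assoc, hgen]; simp
  have e2 : gen W ≫ φ ≫ pullback.snd f f = Z.fromSpecResidueField z ≫ m := by
    rw [← Category.assoc, hgen]; simp
  have e := H z hz W hW _ _ e1 e2 (by simp [pullback.condition])
  have hd : φ = (φ ≫ pullback.fst f f) ≫ pullback.diagonal f :=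
    pullback.hom_ext (by simp) (by simp [← e])
  exact ⟨(φ ≫ pullback.fst f f) (closedPoint W), by
    rw [← Scheme.Hom.comp_apply, ← hd, hφ]⟩

end Groth.Agent.Lib.DvrCrit
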