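import Groth.Agent.Lib.DvrCrit.Basic
import Groth.Agent.Lib.ValSquare.Dominant
import Mathlib.AlgebraicGeometry.Morphisms.FiniteType
import Mathlib.AlgebraicGeometry.Noetherian

/-!
# Valuative criteria tested on discrete valuation rings
-/

set_option autoImplicit false
set_option backward.isDefEq.respectTransparency false
universe u
open CategoryTheory Limits AlgebraicGeometry IsLocalRing

namespace Groth.Agent.Lib.DvrCrit

variable {X S Z : Scheme.{u}}

/-- Existence part of the valuative criterion, tested on enough residue fields. -/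
theorem residueExistence_of_generizations (m : Z ⟶ X) (f : X ⟶ S) (G : Z → Prop)
    (hG : ∀ x : X, ∃ z, G z ∧ m z ⤳ x) (hu : ValuativeCriterion.Uniqueness f)
    (H : ∀ z, G z → ∀ (R : ValuationSubring (Z.residueField z)) (φ : Spec (CommRingCat.of R) ⟶ S),
      gen R ≫ φ = Z.fromSpecResidueField z ≫ m ≫ f →
      ∃ l : Spec (CommRingCat.of R) ⟶ X, gen R ≫ l = Z.fromSpecResidueField z ≫ m ∧ l ≫ f = φ) :
    ValSquare.ResidueExistence f := by
  intro y R φ hφ
  obtain ⟨z, hGz, hz⟩ := hG y
  obtain ⟨d⟩ := ValSquare.nonempty_liftData m z y hz R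
  obtain ⟨φ₁, a, b⟩ := d.exists_glue f φ hφ
  obtain ⟨L, hL₁, hL₂⟩ := H z hGz d.R₁ φ₁ a
  let ι : ↥d.R₁ →+* ↥d.A := d.R₁.subtype.codRestrict d.A.toSubring fun x => d.le x.2
  have hιs : CommRingCat.ofHom ι ≫ CommRingCat.ofHom d.A.subtype =
      CommRingCat.ofHom d.R₁.subtype := rfl
  have hg : Spec.map (CommRingCat.ofHom ι) ≫ L = d.g := by
    have hA : Spec.map (CommRingCat.ofHom d.A.subtype) ≫ Spec.map (CommRingCat.ofHom ι) ≫ L =
        Z.fromSpecResidueField z ≫ m := by
      rw [← Category.assoc, ← Spec.map_comp, hιs]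
      exact hL₁
    haveI : IsLocalHom d.σ := IsLocalHom.of_surjective d.σ d.σ_surj
    have hφ₁ : Spec.map (CommRingCat.ofHom ι) ≫ φ₁ = d.g ≫ f := by
      have e2 : CommRingCat.ofHom d.σ ≫ CommRingCat.ofHom d.Rt.subtype =
          CommRingCat.ofHom ι ≫ CommRingCat.ofHom (residue ↥d.A) := by
        ext x; exact d.σ_spec x
      have e3 : CommRingCat.ofHom d.σ₀ ≫ CommRingCat.ofHom d.Rt.subtype =
          CommRingCat.ofHom R.subtype ≫ CommRingCat.ofHom d.e := by
        ext x; exact d.σ₀_spec x
      have e4 := congrArg (Spec.map (CommRingCat.ofHom d.Rt.subtype) ≫ ·) b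
      simp only [← Category.assoc, ← Spec.map_comp, e2, e3] at e4
      simp only [Spec.map_comp, Category.assoc, hφ] at e4
      refine ValSquare.eq_of_comp_eq d.A.subtype Subtype.val_injective _ _ ?_ ?_
      · rw [← ValSquare.map_closedPoint (residue ↥d.A)]
        show (Spec.map (CommRingCat.ofHom (residue ↥d.A)) ≫ Spec.map (CommRingCat.ofHom ι) ≫ φ₁)
          (closedPoint _) = (Spec.map (CommRingCat.ofHom (residue ↥d.A)) ≫ d.g ≫ f) (closedPoint _)
        rw [e4, ← Category.assoc, ← Category.assoc (Spec.map _) d.g, d.g_res]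
      · rw [← Category.assoc, ← Spec.map_comp, hιs, a, ← Category.assoc _ d.g, d.g_gen,
          Category.assoc]
    let Sq : ValuativeCommSq f :=
      { R := ↥d.A, K := ↑(Z.residueField z), i₁ := Z.fromSpecResidueField z ≫ m
        i₂ := d.g ≫ f
        commSq := ⟨(by
          show (Z.fromSpecResidueField z ≫ m) ≫ f = Spec.map (CommRingCat.ofHom d.A.subtype) ≫ d.g ≫ f
          rw [← d.g_gen, Category.assoc])⟩ }
    have := hu Sq
    exact congrArg CommSq.LiftStruct.l (Subsingleton.elim
      (α := Sq.commSq.LiftStruct) ⟨_, hA, by rw [Category.assoc, hL₂, hφ₁]⟩ ⟨d.g, d.g_gen, rfl⟩)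
  have hres : Spec.map (CommRingCat.ofHom d.Rt.subtype) ≫ Spec.map (CommRingCat.ofHom d.σ) ≫ L =
      (Spec.map (CommRingCat.ofHom d.e) ≫ X.fromSpecResidueField y) ≫ 𝟙 X := by
    rw [Category.comp_id, ← d.g_res, ← hg, ← Category.assoc, ← Category.assoc, ← Spec.map_comp,
      ← Spec.map_comp]
    congr 2
    ext x; exact d.σ_spec x
  obtain ⟨l', ⟨hl'1, hl'2⟩, -⟩ := ValSquare.existsUnique_factor_residueField (𝟙 X) (ResidueField ↥d.A)
    d.Rt (Spec.map (CommRingCat.ofHom d.e) ≫ X.fromSpecResidueField y)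
    (Spec.map (CommRingCat.ofHom d.σ) ≫ L) hres y (CommRingCat.ofHom d.e) rfl
    (ValSquare.comapRestrict d.Rt d.e) (fun _ => rfl)
  let π : ↥(d.Rt.comap d.e) →+* ↥R :=
    (d.Rt.comap d.e).subtype.codRestrict R.toSubring fun x => d.comap_eq.le x.2
  refine ⟨Spec.map (CommRingCat.ofHom π) ≫ l', ?_, ?_⟩
  · rw [← Category.assoc, ← Spec.map_comp]
    exact (hl'2.trans (Category.comp_id _))
  · haveI := d.σ₀_local
    refine d.ext_of_comp _ _ ?_ ?_
    · rw [← Category.assoc, ← Category.assoc, ← Spec.map_comp, hφ]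
      exact congrArg (· ≫ f) (hl'2.trans (Category.comp_id _))
    · rw [← b, ← hL₂, ← Category.assoc, ← Category.assoc, ← Category.assoc]
      congr 1
      rw [← hl'1, ← Spec.map_comp]
      congr 2
      ext x; exact d.σ₀_spec (π x)

theorem universallyClosed_of_residueExistence (f : X ⟶ S) [QuasiCompact f]
    (h : ValSquare.ResidueExistence f) : UniversallyClosed f :=
  UniversallyClosed.of_valuativeCriterion f (ValSquare.existence_of_residue h)

/-- Universal closedness from discrete valuation rings of the residue fields. -/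
theorem universallyClosed_of_dvr [IsLocallyNoetherian S] (f : X ⟶ S) [LocallyOfFiniteType f]
    [QuasiCompact f]
    (H : ∀ (x : X) (W : ValuationSubring (X.residueField x)), IsDiscreteValuationRing W →
      ∀ φ : Spec (CommRingCat.of W) ⟶ S, gen W ≫ φ = X.fromSpecResidueField x ≫ f →
      ∃ l : Spec (CommRingCat.of W) ⟶ X, gen W ≫ l = X.fromSpecResidueField x ∧ l ≫ f = φ) :
    UniversallyClosed f := by
  refine universallyClosed_of_residueExistence f fun x R φ hφ => ?_
  haveI : LocallyOfFiniteType (𝟙 X ≫ f) := by simpa using ‹LocallyOfFiniteType f›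
  simpa using exists_lift_of_dvr f (𝟙 X) x (by simpa using H x) R φ (by simpa using hφ)

/-- Properness from discrete valuation rings of enough residue fields, for separated morphisms. -/
theorem universallyClosed_of_dvr_of_generizations [IsLocallyNoetherian S] (f : X ⟶ S)
    [LocallyOfFiniteType f] [QuasiCompact f] [IsSeparated f] (m : Z ⟶ X) [LocallyOfFiniteType m]
    (G : Z → Prop) (hG : ∀ x : X, ∃ z, G z ∧ m z ⤳ x)
    (H : ∀ z, G z → ∀ W : ValuationSubring (Z.residueField z), IsDiscreteValuationRing W →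
      ∀ φ : Spec (CommRingCat.of W) ⟶ S, gen W ≫ φ = Z.fromSpecResidueField z ≫ m ≫ f →
      ∃ l : Spec (CommRingCat.of W) ⟶ X, gen W ≫ l = Z.fromSpecResidueField z ≫ m ∧ l ≫ f = φ) :
    UniversallyClosed f := by
  have hu : ValuativeCriterion.Uniqueness f := by
    have h := ‹IsSeparated f›
    rw [IsSeparated.eq_valuativeCriterion] at h
    exact h.1
  exact universallyClosed_of_residueExistence f (residueExistence_of_generizations m f G hG hu
    fun z hz R φ w => exists_lift_of_dvr f m z (H z hz) R φ w)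

end Groth.Agent.Lib.DvrCrit
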