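import Mathlib.AlgebraicGeometry.Morphisms.FiniteType
import Mathlib.RingTheory.EssentialFiniteness
import Mathlib.RingTheory.RingHom.EssFiniteType
import Mathlib.AlgebraicGeometry.Stalk

/-!
# Local rings of schemes locally of finite type are essentially of finite type over the base
-/

set_option autoImplicit false
set_option backward.isDefEq.respectTransparency false
universe u
open CategoryTheory AlgebraicGeometry

namespace Groth.Agent.Lib.DvrCrit

theorem exists_essFiniteType_stalk {C S : Scheme.{u}} (r : C ⟶ S) [LocallyOfFiniteType r] (c : C) :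
    ∃ (U : S.affineOpens) (φ : Γ(S, U.1) ⟶ C.presheaf.stalk c),
      Spec.map φ ≫ U.2.fromSpec = C.fromSpecStalk c ≫ r ∧ φ.hom.EssFiniteType := by
  obtain ⟨U, hU, hcU, -⟩ :=
    exists_isAffineOpen_mem_and_subset (x := r c) (U := (⊤ : S.Opens)) trivial
  obtain ⟨V, hV, hcV, hVU⟩ :=
    exists_isAffineOpen_mem_and_subset (x := c) (U := r ⁻¹ᵁ U) hcU
  refine ⟨⟨U, hU⟩, r.appLE U V hVU ≫ C.presheaf.germ V c hcV, ?_, ?_⟩
  · rw [Spec.map_comp, Category.assoc]
    erw [IsAffineOpen.SpecMap_appLE_fromSpec r hU hV hVU]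
    rw [← Category.assoc, ← hV.fromSpecStalk_eq_fromSpecStalk hcV]
    rfl
  · have h1 : (r.appLE U V hVU).hom.EssFiniteType :=
      (r.finiteType_appLE hU hV hVU).essFiniteType
    have h2 : (C.presheaf.germ V c hcV).hom.EssFiniteType := by
      letI := TopCat.Presheaf.algebra_section_stalk C.presheaf ⟨c, hcV⟩
      haveI := hV.isLocalization_stalk ⟨c, hcV⟩
      exact Algebra.EssFiniteType.of_isLocalization (C.presheaf.stalk c)
        (hV.primeIdealOf ⟨c, hcV⟩).asIdeal.primeCompl
    exact h1.comp h2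

end Groth.Agent.Lib.DvrCrit
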