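import Groth.Agent.Lib.DvrCrit.CurveRing
import Groth.Agent.Lib.FinCond.Dominant
import Mathlib.AlgebraicGeometry.Morphisms.FiniteType
import Mathlib.AlgebraicGeometry.Morphisms.FinitePresentation
import Mathlib.AlgebraicGeometry.Noetherian
import Mathlib.AlgebraicGeometry.FunctionField
import Mathlib.RingTheory.DiscreteValuationRing.TFAE

/-!
# Curves testing closedness of images over a Nagata base
-/

set_option autoImplicit false
set_option linter.unusedVariables false
set_option backward.isDefEq.respectTransparency false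
universe u
open CategoryTheory Limits AlgebraicGeometry Topology

namespace Groth.Agent.Lib.DvrCrit

variable {S T Z : Scheme.{u}}

theorem lfp_of_lft {X Y : Scheme.{u}} (f : X ⟶ Y) [IsLocallyNoetherian Y] [LocallyOfFiniteType f] :
    LocallyOfFinitePresentation f := by
  refine (HasRingHomProperty.iff_appLE (P := @LocallyOfFinitePresentation) (f := f)).2 fun U V e => ?_
  haveI : IsNoetherianRing Γ(Y, U.1) := IsLocallyNoetherian.component_noetherian U
  exact RingHom.FinitePresentation.of_finiteType.1 (f.finiteType_appLE U.2 V.2 e)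

/-- A normal curve witnessing that the range of a morphism of finite type is not closed. -/
theorem exists_curve [IsLocallyNoetherian S] [IsLocallyNoetherian T]
    (hN : ∀ W : T.affineOpens, CAlg.IsNagata Γ(T, W)) (q : T ⟶ S) [LocallyOfFiniteType q]
    (h : Z ⟶ T) [LocallyOfFiniteType h] [QuasiCompact h] (hnc : ¬ IsClosed (Set.range h)) :
    ∃ (C : Scheme.{u}) (r : C ⟶ S) (_ : IsIntegral C) (_ : LocallyOfFiniteType r) (_ : QuasiCompact r),
      (∀ x : C, IsIntegrallyClosed (C.presheaf.stalk x)) ∧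
      ∃ (c : C), IsClosed ({c} : Set C) ∧ ringKrullDim (C.presheaf.stalk c) = 1 ∧
      ∃ (U : C.Opens), (U : Set C) = {c}ᶜ ∧
      ∃ (u : (U : Scheme.{u}) ⟶ Z) (g : C ⟶ T), g ≫ q = r ∧ u ≫ h = U.ι ≫ g ∧
      ∃ (k : Spec (CommRingCat.of (FractionRing (C.presheaf.stalk c))) ⟶ (U : Scheme.{u})),
        k ≫ U.ι = Spec.map (CommRingCat.ofHom (algebraMap (C.presheaf.stalk c)
          (FractionRing (C.presheaf.stalk c)))) ≫ C.fromSpecStalk c ∧
        g c ∉ Set.range h := by
  haveI := lfp_of_lft h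
  obtain ⟨y, hy, hyE⟩ : ∃ y, y ∈ closure (Set.range h) ∧ y ∉ Set.range h := by
    by_contra! hn
    exact hnc (closure_subset_iff_isClosed.1 hn)
  obtain ⟨V, hV, hyV, -⟩ := exists_isAffineOpen_mem_and_subset (x := y) (U := (⊤ : T.Opens)) trivial
  let B : CommRingCat := Γ(T, V)
  haveI : IsNoetherianRing B := IsLocallyNoetherian.component_noetherian ⟨V, hV⟩
  have hE : IsLocallyConstructible (Set.range h) := by
    rw [← Set.image_univ]
    exact h.isLocallyConstructible_image IsLocallyConstructible.univ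
  let SV : Set (PrimeSpectrum B) := hV.fromSpec ⁻¹' Set.range h
  haveI : TopologicalSpace.NoetherianSpace (PrimeSpectrum B) := inferInstance
  have hSV : IsConstructible SV :=
    (hE.preimage_of_isOpenEmbedding hV.fromSpec.isOpenEmbedding).isConstructible
  let py : PrimeSpectrum B := hV.primeIdealOf ⟨y, hyV⟩
  have hpy : hV.fromSpec py = y := hV.fromSpec_primeIdealOf ⟨y, hyV⟩
  obtain ⟨z₀, hz₀⟩ := FinCond.exists_specializes_of_mem_closure_range h hy
  obtain ⟨s₀, hs₀⟩ : h z₀ ∈ Set.range hV.fromSpec := by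
    rw [hV.range_fromSpec]; exact hz₀.mem_open V.2 hyV
  have hsy : s₀.asIdeal ≤ py.asIdeal :=
    (PrimeSpectrum.le_iff_specializes s₀ py).2
      (hV.fromSpec.isOpenEmbedding.isInducing.specializes_iff.1 (hs₀.symm ▸ hpy.symm ▸ hz₀))
  obtain ⟨p, ⟨hpS, s₁, hs₁S, hs₁p⟩, f₁, hf₁, h₁⟩ := exists_isolated hSV.compl
    {r | ∃ s ∈ SV, s.asIdeal ≤ r.asIdeal}
    ⟨py, (fun hmem => hyE (hpy ▸ hmem)), s₀, ⟨z₀, hs₀.symm⟩, hsy⟩
  obtain ⟨q₀, ⟨hq₀S, hq₀p⟩, f₂, hf₂, h₂⟩ := exists_isolated hSV {r | r.asIdeal ≤ p.asIdeal}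
    ⟨s₁, hs₁S, hs₁p⟩
  obtain ⟨z, hz⟩ := hq₀S
  have hzV : z ∈ h ⁻¹ᵁ V := by
    show h z ∈ V
    rw [hz]
    exact hV.range_fromSpec.le ⟨q₀, rfl⟩
  obtain ⟨W, hW, hzW, hWV⟩ := exists_isAffineOpen_mem_and_subset (U := h ⁻¹ᵁ V) hzV
  let A : CommRingCat := Γ(Z, W)
  letI : Algebra B A := (h.appLE V W hWV).hom.toAlgebra
  haveI : Algebra.FiniteType B A := h.finiteType_appLE hV hW hWV
  let pz : PrimeSpectrum A := hW.primeIdealOf ⟨z, hzW⟩
  have hpz : PrimeSpectrum.comap (algebraMap B A) pz = q₀ := by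
    apply hV.fromSpec.isOpenEmbedding.injective
    show (Spec.map (h.appLE V W hWV) ≫ hV.fromSpec) pz = _
    rw [IsAffineOpen.SpecMap_appLE_fromSpec h hV hW hWV, Scheme.Hom.comp_apply]
    exact (congrArg h (hW.fromSpec_primeIdealOf ⟨z, hzW⟩)).trans hz
  have hlt : q₀.asIdeal < p.asIdeal := lt_of_le_of_ne hq₀p fun e =>
    hpS ((PrimeSpectrum.ext e : q₀ = p) ▸ ⟨z, hz⟩)
  obtain ⟨d⟩ := nonempty_curveData (hN ⟨V, hV⟩) A pz.asIdeal p.asIdeal q₀.asIdeal
    (congrArg PrimeSpectrum.asIdeal hpz) hlt f₁ hf₁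
    (fun r hr hpr hfr => congrArg PrimeSpectrum.asIdeal
      (h₁ ⟨r, hr⟩ ⟨s₁, hs₁S, hs₁p.trans hpr⟩ hpr hfr))
    f₂ hf₂ (fun r hr hrp hqr hfr => congrArg PrimeSpectrum.asIdeal (h₂ ⟨r, hr⟩ hrp hqr hfr))
  obtain ⟨C, c, hcp, -, hmax, hht, u, hu, θ⟩ := d
  let Cs : Scheme.{u} := Spec (CommRingCat.of C)
  let g : Cs ⟶ T := Spec.map (CommRingCat.ofHom (algebraMap B C)) ≫ hV.fromSpec
  haveI : LocallyOfFiniteType (Spec.map (CommRingCat.ofHom (algebraMap B C))) :=
    (HasRingHomProperty.Spec_iff (P := @LocallyOfFiniteType)).2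
      (RingHom.finiteType_algebraMap.2 inferInstance)
  haveI : LocallyOfFiniteType g := inferInstance
  haveI : IsIntegral Cs := inferInstanceAs (IsIntegral (Spec (CommRingCat.of C)))
  have hloc : ∀ x : Cs, letI := StructureSheaf.stalkAlgebra C x
      IsLocalization.AtPrime ((Spec.structureSheaf C).presheaf.stalk x) x.asIdeal :=
    fun x => inferInstance
  haveI : IsNoetherianRing C := Algebra.FiniteType.isNoetherianRing B C
  refine ⟨Cs, g ≫ q, inferInstance, inferInstance, QuasiCompact.of_comp _ (terminal.from S), ?_, c, ?_, ?_, ?_⟩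
  · intro x
    letI : Algebra C (Cs.presheaf.stalk x) := StructureSheaf.stalkAlgebra C x
    haveI : IsLocalization.AtPrime (Cs.presheaf.stalk x) x.asIdeal := hloc x
    exact isIntegrallyClosed_of_isLocalization _ x.asIdeal.primeCompl x.asIdeal.primeCompl_le_nonZeroDivisors
  · exact (PrimeSpectrum.isClosed_singleton_iff_isMaximal c).2 hmax
  · letI : Algebra C (Cs.presheaf.stalk c) := StructureSheaf.stalkAlgebra C c
    haveI : IsLocalization.AtPrime (Cs.presheaf.stalk c) c.asIdeal := hloc c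
    rw [IsLocalization.AtPrime.ringKrullDim_eq_height c.asIdeal (Cs.presheaf.stalk c), hht]
    rfl
  let U : Cs.Opens := ⟨{c}ᶜ, ((PrimeSpectrum.isClosed_singleton_iff_isMaximal c).2 hmax).isOpen_compl⟩
  let au : Spec (CommRingCat.of (Localization.Away u)) ⟶ Cs :=
    Spec.map (CommRingCat.ofHom (algebraMap C (Localization.Away u)))
  haveI : IsOpenImmersion au := IsOpenImmersion.of_isLocalization u
  have hUu : Set.range U.ι ⊆ Set.range au := by
    rw [Scheme.Opens.range_ι]
    intro x hx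
    exact (PrimeSpectrum.localization_away_comap_range (Localization.Away u) u).ge (hu x hx)
  let uZ : (U : Scheme.{u}) ⟶ Z :=
    IsOpenImmersion.lift au U.ι hUu ≫ Spec.map (CommRingCat.ofHom θ.toRingHom) ≫ hW.fromSpec
  have hgen : Set.range (Spec.map (CommRingCat.ofHom (algebraMap (Cs.presheaf.stalk c)
      (FractionRing (Cs.presheaf.stalk c)))) ≫ Cs.fromSpecStalk c) ⊆ Set.range U.ι := by
    rw [Scheme.Opens.range_ι]
    rintro _ ⟨x, rfl⟩ hxc
    letI : Algebra C (Cs.presheaf.stalk c) := StructureSheaf.stalkAlgebra C c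
    haveI : IsLocalization.AtPrime (Cs.presheaf.stalk c) c.asIdeal := hloc c
    let pc : Spec (Cs.presheaf.stalk c) := IsLocalRing.closedPoint (Cs.presheaf.stalk c)
    have hpc : Cs.fromSpecStalk c pc = c := Scheme.fromSpecStalk_closedPoint
    have e : (Spec.map (CommRingCat.ofHom (algebraMap (Cs.presheaf.stalk c)
        (FractionRing (Cs.presheaf.stalk c))))) x = pc :=
      (Cs.fromSpecStalk c).isEmbedding.injective ((Set.mem_singleton_iff.1 hxc).trans hpc.symm)
    have e' : x.asIdeal.comap (algebraMap (Cs.presheaf.stalk c) (FractionRing (Cs.presheaf.stalk c))) =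
        IsLocalRing.maximalIdeal _ := congrArg PrimeSpectrum.asIdeal e
    rw [((Ideal.eq_bot_or_top x.asIdeal).resolve_right x.2.ne_top), ← RingHom.ker_eq_comap_bot,
      (RingHom.injective_iff_ker_eq_bot _).1 (IsFractionRing.injective _ _)] at e'
    have h1 := IsLocalization.AtPrime.ringKrullDim_eq_height c.asIdeal (Cs.presheaf.stalk c)
    rw [hht, ringKrullDim_eq_zero_of_isField (IsLocalRing.isField_iff_maximalIdeal_eq.2 e'.symm)] at h1
    exact absurd h1 (by norm_num)
  refine ⟨U, rfl, uZ, g, rfl, ?_, IsOpenImmersion.lift U.ι _ hgen, IsOpenImmersion.lift_fac _ _ _, ?_⟩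
  · have e1 : Spec.map (CommRingCat.ofHom θ.toRingHom) ≫ Spec.map (h.appLE V W hWV) =
        au ≫ Spec.map (CommRingCat.ofHom (algebraMap B C)) := by
      rw [← Spec.map_comp, ← Spec.map_comp]
      congr 1
      ext b
      exact (θ.commutes b).trans (IsScalarTower.algebraMap_apply B C (Localization.Away u) b)
    rw [Category.assoc, Category.assoc, ← IsAffineOpen.SpecMap_appLE_fromSpec h hV hW hWV,
      reassoc_of% e1, IsOpenImmersion.lift_fac_assoc]
  · intro hmem
    refine hpS ?_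
    have e : g c = hV.fromSpec p := congrArg hV.fromSpec
      (PrimeSpectrum.ext hcp : PrimeSpectrum.comap (algebraMap B C) c = p)
    show hV.fromSpec p ∈ Set.range h
    exact e ▸ hmem

/-- The local ring of such a curve at its marked point is a discrete valuation ring. -/
theorem curve_stalk_dvr {C : Scheme.{u}} [IsIntegral C] [IsLocallyNoetherian C] (c : C)
    (hn : IsIntegrallyClosed (C.presheaf.stalk c)) (hd : ringKrullDim (C.presheaf.stalk c) = 1) :
    IsDiscreteValuationRing (C.presheaf.stalk c) := by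
  have hnf : ¬ IsField (C.presheaf.stalk c) := fun hF => by
    rw [ringKrullDim_eq_zero_of_isField hF] at hd
    exact absurd hd (by norm_num)
  haveI : Ring.KrullDimLE 1 (C.presheaf.stalk c) := Ring.krullDimLE_iff.2 hd.le
  have t := (IsDiscreteValuationRing.TFAE (C.presheaf.stalk c) hnf).out 0 3
  refine t.2 ⟨hn, ?_⟩
  refine ⟨IsLocalRing.maximalIdeal _, ⟨fun h => hnf (IsLocalRing.isField_iff_maximalIdeal_eq.2 h),
    inferInstance⟩, fun P ⟨hP0, hP⟩ => ?_⟩
  exact IsLocalRing.eq_maximalIdeal (Ring.krullDimLE_one_iff_of_noZeroDivisors.1 inferInstance P hP0 hP)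

end Groth.Agent.Lib.DvrCrit
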