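import Groth.Agent.Lib.DvrCrit.Birational
import Mathlib.LinearAlgebra.Dual.Lemmas

/-!
# Valuative criterion for monomorphisms with a lift at the closed point
-/

set_option autoImplicit false
set_option linter.unusedVariables false
set_option backward.isDefEq.respectTransparency false
universe u
open CategoryTheory Limits AlgebraicGeometry IsLocalRing TensorProduct

namespace Groth.Agent.Lib.DvrCrit

variable {X Y : Scheme.{u}}

/-- An epimorphism of fields is surjective. -/
theorem surjective_of_epi_field {K L : Type u} [Field K] [Field L] [Algebra K L]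
    [Epi (CommRingCat.ofHom (algebraMap K L))] : Function.Surjective (algebraMap K L) := by
  intro c
  by_contra hc
  push Not at hc
  have hc' : c ∉ (K ∙ (1 : L)) := by
    rw [Submodule.mem_span_singleton]
    rintro ⟨k, hk⟩
    exact hc k (by rw [← hk, Algebra.smul_def, mul_one])
  obtain ⟨μ, hμc, hμ⟩ := Submodule.exists_dual_map_eq_bot_of_notMem hc' inferInstance
  have hμ1 : μ (1 : L) = 0 := by
    have : μ (1 : L) ∈ (K ∙ (1 : L)).map μ := Submodule.mem_map_of_mem (Submodule.mem_span_singleton_self 1)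
    rwa [hμ, Submodule.mem_bot] at this
  have e : CommRingCat.ofHom (Algebra.TensorProduct.includeLeftRingHom : L →+* L ⊗[K] L) =
      CommRingCat.ofHom (Algebra.TensorProduct.includeRight : L →ₐ[K] L ⊗[K] L).toRingHom := by
    rw [← cancel_epi (CommRingCat.ofHom (algebraMap K L))]
    ext k
    exact Algebra.TensorProduct.tmul_one_eq_one_tmul k
  have h1 : c ⊗ₜ[K] (1 : L) = (1 : L) ⊗ₜ[K] c := congr(($e).hom c)
  have h2 := congrArg (TensorProduct.lift ((LinearMap.lsmul K L).comp μ)) h1
  simp [hμ1] at h2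
  exact hμc h2

theorem residueFieldMap_bijective_of_mono (f : Y ⟶ X) [Mono f] (y : Y) :
    Function.Bijective (f.residueFieldMap y).hom := by
  refine ⟨(f.residueFieldMap y).hom.injective, ?_⟩
  let α := f.residueFieldMap y
  letI : Algebra (X.residueField (f y)) (Y.residueField y) := α.hom.toAlgebra
  haveI hm : Mono (Spec.map α ≫ X.fromSpecResidueField (f y)) := by
    rw [Scheme.Hom.SpecMap_residueFieldMap_fromSpecResidueField]
    infer_instance
  haveI : Mono (Spec.map α) := mono_of_mono (Spec.map α) (X.fromSpecResidueField (f y))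
  haveI : Epi (CommRingCat.ofHom (algebraMap (X.residueField (f y)) (Y.residueField y))) :=
    ⟨fun g₁ g₂ h => by
      refine Spec.map_injective ((cancel_mono (Spec.map α)).1 ?_)
      rw [← Spec.map_comp, ← Spec.map_comp]
      exact congrArg Spec.map h⟩
  exact surjective_of_epi_field (K := X.residueField (f y)) (L := Y.residueField y)

theorem specializes_of_gen (z : Y) (W : ValuationSubring (Y.residueField z))
    (l : Spec (CommRingCat.of W) ⟶ Y) (h : gen W ≫ l = Y.fromSpecResidueField z) :
    z ⤳ l (closedPoint W) :=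
  (specializes_of_eq (Scheme.fromSpecResidueField_apply z (closedPoint (Y.residueField z))).symm).trans
    (gen_specializes W l _ h)

variable [IsLocallyNoetherian X] (f : Y ⟶ X) [Mono f]

/-- Every element of the residue field is a quotient of images from the local ring at a
specialization. -/
theorem closure_range_eq_top (z : Y) (a₀ : X) (h : f z ⤳ a₀) :
    Subfield.closure (Set.range (X.presheaf.stalkSpecializes h ≫ f.stalkMap z ≫ Y.residue z).hom) = ⊤ := by
  refine eq_top_iff.2 fun r _ => ?_
  obtain ⟨s, rfl⟩ := (residueFieldMap_bijective_of_mono f z).2 r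
  obtain ⟨x, rfl⟩ := X.residue_surjective (f z) s
  obtain ⟨V, hV, ha₀, -⟩ := exists_isAffineOpen_mem_and_subset (x := a₀) (U := (⊤ : X.Opens)) trivial
  have hzV : f z ∈ V := h.mem_open V.2 ha₀
  letI : Algebra Γ(X, V) (X.presheaf.stalk (f z)) := TopCat.Presheaf.algebra_section_stalk X.presheaf ⟨f z, hzV⟩
  haveI := hV.isLocalization_stalk ⟨f z, hzV⟩
  obtain ⟨⟨p, q⟩, hpq⟩ := IsLocalization.surj (hV.primeIdealOf ⟨f z, hzV⟩).asIdeal.primeCompl x
  have hpq' : x * (X.presheaf.germ V (f z) hzV).hom q = (X.presheaf.germ V (f z) hzV).hom p := hpq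
  let θ := f.stalkMap z ≫ Y.residue z
  have hr : (f.residueFieldMap z).hom ((X.residue (f z)).hom x) = θ.hom x :=
    congr(($(Scheme.residue_residueFieldMap f z)).hom x)
  rw [hr]
  have hq : θ.hom ((X.presheaf.germ V (f z) hzV).hom q) ≠ 0 := by
    have hu : IsUnit (algebraMap Γ(X, V) (X.presheaf.stalk (f z)) q) := IsLocalization.map_units _ q
    exact (hu.map θ.hom).ne_zero
  have h2 : θ.hom x = θ.hom ((X.presheaf.germ V (f z) hzV).hom p) /
      θ.hom ((X.presheaf.germ V (f z) hzV).hom q) := by
    rw [eq_div_iff hq, ← hpq', map_mul]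
  have hmem : ∀ w, θ.hom ((X.presheaf.germ V (f z) hzV).hom w) ∈
      Set.range (X.presheaf.stalkSpecializes h ≫ f.stalkMap z ≫ Y.residue z).hom := fun w =>
    ⟨(X.presheaf.germ V a₀ ha₀).hom w, by
      exact congrArg θ.hom (congr(($(TopCat.Presheaf.germ_stalkSpecializes X.presheaf ha₀ h)).hom w))⟩
  rw [h2]
  exact div_mem (Subfield.subset_closure (hmem p)) (Subfield.subset_closure (hmem q))

variable (H : ∀ S : ValuativeCommSq f, IsDiscreteValuationRing S.R →
    (∃ l₀ : Spec (CommRingCat.of (ResidueField S.R)) ⟶ Y,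
        l₀ ≫ f = Spec.map (CommRingCat.ofHom (residue S.R)) ≫ S.i₂) →
      S.commSq.HasLift)

include H in
/-- Valuation rings with a lift at the closed point lift. -/
theorem exists_lift_of_mono (z y₀ : Y) (R : ValuationSubring (Y.residueField z))
    (φ : Spec (CommRingCat.of R) ⟶ X) (w : gen R ≫ φ = Y.fromSpecResidueField z ≫ f)
    (hy₀ : φ (closedPoint R) = f y₀) :
    ∃ l : Spec (CommRingCat.of R) ⟶ Y, gen R ≫ l = Y.fromSpecResidueField z ∧ l ≫ f = φ := by
  have hφs : f z ⤳ f y₀ := hy₀ ▸ fromSpecResidueField_point z f _ ▸ gen_specializes R φ _ w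
  obtain ⟨ψ, hψφ⟩ := ValSquare.exists_factor φ (f y₀) hy₀
  have hψc : (maximalIdeal R).comap ψ.hom = maximalIdeal (X.presheaf.stalk (f y₀)) := by
    have h1 : X.fromSpecStalk (f y₀) ((Spec.map ψ) (closedPoint R)) =
        X.fromSpecStalk (f y₀) (closedPoint _) := by
      exact (point_congr hψφ _).trans (hy₀.trans Scheme.fromSpecStalk_closedPoint.symm)
    exact congrArg PrimeSpectrum.asIdeal ((X.fromSpecStalk (f y₀)).isEmbedding.injective h1)
  let φA : X.presheaf.stalk (f y₀) ⟶ Y.residueField z :=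
    X.presheaf.stalkSpecializes hφs ≫ f.stalkMap z ≫ Y.residue z
  have hψ : ψ ≫ CommRingCat.ofHom R.subtype = φA := by
    apply Spec.map_injective
    rw [← cancel_mono (X.fromSpecStalk _), Spec.map_comp, Category.assoc, hψφ]
    simp only [φA, Spec.map_comp, Category.assoc, Scheme.SpecMap_stalkSpecializes_fromSpecStalk,
      Scheme.SpecMap_stalkMap_fromSpecStalk]
    rw [Scheme.fromSpecResidueField, Category.assoc] at w
    exact w
  by_cases hne : f z = f y₀
  · obtain rfl : z = y₀ := Scheme.Hom.injective f hne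
    have hφA : φA = f.stalkMap z ≫ Y.residue z := by
      simp only [φA, TopCat.Presheaf.stalkSpecializes_refl, Category.id_comp]
    have htop : ∀ r : Y.residueField z, r ∈ R := by
      intro r
      obtain ⟨s, rfl⟩ := (residueFieldMap_bijective_of_mono f z).2 r
      obtain ⟨x, rfl⟩ := X.residue_surjective (f z) s
      have hr : (f.residueFieldMap z).hom ((X.residue (f z)).hom x) = φA.hom x := by
        rw [hφA]
        exact congr(($(Scheme.residue_residueFieldMap f z)).hom x)
      rw [hr]
      exact congr(($hψ).hom x) ▸ (ψ.hom x).2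
    let c : CommRingCat.of R ⟶ Y.residueField z := CommRingCat.ofHom R.subtype
    let d : Y.residueField z ⟶ CommRingCat.of R :=
      CommRingCat.ofHom ((RingHom.id _).codRestrict R.toSubring htop)
    have hcd : c ≫ d = 𝟙 _ := by ext; rfl
    have hdc : d ≫ c = 𝟙 _ := by ext; rfl
    refine ⟨Spec.map d ≫ Y.fromSpecResidueField z, ?_, ?_⟩
    · show Spec.map c ≫ Spec.map d ≫ _ = _
      rw [← Category.assoc, ← Spec.map_comp, hdc, Spec.map_id, Category.id_comp]
    · rw [Category.assoc, ← w]
      show Spec.map d ≫ Spec.map c ≫ φ = φ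
      rw [← Category.assoc, ← Spec.map_comp, hcd, Spec.map_id, Category.id_comp]
  haveI : IsNoetherianRing (X.presheaf.stalk (f y₀)) := inferInstance
  have hclo : Subfield.closure (Set.range φA.hom ∪ ((∅ : Finset (Y.residueField z)) : Set _)) = ⊤ := by
    rw [Finset.coe_empty, Set.union_empty]
    exact closure_range_eq_top f z _ hφs
  have hkerm : RingHom.ker φA.hom < maximalIdeal _ := by
    refine lt_of_le_of_ne (le_maximalIdeal (RingHom.ker_ne_top _)) fun e => hne ?_
    let p : Spec (Y.residueField z) := closedPoint (Y.residueField z)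
    have h1 : Spec.map φA p = closedPoint _ := by
      refine PrimeSpectrum.ext ?_
      show Ideal.comap φA.hom (maximalIdeal (Y.residueField z)) = _
      rw [(IsLocalRing.isField_iff_maximalIdeal_eq).1 (Field.toIsField _), ← RingHom.ker_eq_comap_bot]
      exact e
    have h2 : (Spec.map φA ≫ X.fromSpecStalk _) p = f y₀ := by
      rw [Scheme.Hom.comp_apply, h1, Scheme.fromSpecStalk_closedPoint]
    rw [← h2, ← hψ, Spec.map_comp, Category.assoc, hψφ]
    exact (fromSpecResidueField_point z f p).symm.trans (congrArg (fun g : _ ⟶ X => g p) w.symm)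
  -- every centred discrete valuation ring lifts, with closed point `y₀`
  have key : ∀ (W : ValuationSubring (Y.residueField z)) (hW : IsDiscreteValuationRing W)
      (hmem : ∀ r, φA.hom r ∈ W),
      (maximalIdeal W).comap (φA.hom.codRestrict W.toSubring hmem) = maximalIdeal _ →
      ∃ hz : z ⤳ y₀, ∀ u, (Y.presheaf.stalkSpecializes hz ≫ Y.residue z).hom u ∈ W := by
    intro W hW hmem hc
    let ψW : X.presheaf.stalk (f y₀) ⟶ CommRingCat.of W :=
      CommRingCat.ofHom (φA.hom.codRestrict W.toSubring hmem)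
    haveI hloc : IsLocalHom ψW.hom := ⟨fun r hr => by
      by_contra hn
      have : r ∈ (maximalIdeal W).comap ψW.hom := hc.ge hn
      exact this hr⟩
    have hψW : ψW ≫ CommRingCat.ofHom W.subtype = φA := rfl
    let φW := Spec.map ψW ≫ X.fromSpecStalk (f y₀)
    have hWc : φW (closedPoint W) = f y₀ := by
      have e : (Spec.map ψW) (closedPoint W) = closedPoint _ := comap_closedPoint ψW.hom
      rw [Scheme.Hom.comp_apply, e, Scheme.fromSpecStalk_closedPoint]
    have hgen : gen W ≫ φW = Y.fromSpecResidueField z ≫ f := by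
      rw [← Category.assoc, ← Spec.map_comp, hψW, ← hψ, Spec.map_comp, Category.assoc, hψφ]
      exact w
    have hl₀ : ∃ l₀ : Spec (CommRingCat.of (ResidueField W)) ⟶ Y,
        l₀ ≫ f = Spec.map (CommRingCat.ofHom (residue W)) ≫ φW := by
      let e := RingEquiv.ofBijective _ (residueFieldMap_bijective_of_mono f y₀)
      let ε : X.residueField (f y₀) ⟶ CommRingCat.of (ResidueField W) :=
        CommRingCat.ofHom (ResidueField.map ψW.hom)
      refine ⟨Spec.map (CommRingCat.ofHom (ε.hom.comp e.symm.toRingHom)) ≫ Y.fromSpecResidueField y₀, ?_⟩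
      rw [Category.assoc, ← Scheme.Hom.SpecMap_residueFieldMap_fromSpecResidueField,
        ← Category.assoc, ← Spec.map_comp]
      have e1 : f.residueFieldMap y₀ ≫ CommRingCat.ofHom (ε.hom.comp e.symm.toRingHom) = ε := by
        ext r
        exact congrArg ε.hom (e.symm_apply_apply r)
      have e2 : X.residue (f y₀) ≫ ε = ψW ≫ CommRingCat.ofHom (residue W) := by
        ext r
        rfl
      rw [e1, Scheme.fromSpecResidueField, ← Category.assoc, ← Spec.map_comp, e2, Spec.map_comp,
        Category.assoc]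
    obtain ⟨l, hl1, hl2⟩ := (H { R := W, K := Y.residueField z, i₁ := Y.fromSpecResidueField z, i₂ := φW, commSq := ⟨hgen.symm⟩ } hW hl₀).exists_lift
    have hl : l (closedPoint W) = y₀ := by
      refine Scheme.Hom.injective f ?_
      rw [← hWc]
      exact congrArg (fun g : _ ⟶ X => g (closedPoint W)) hl2
    have hz : z ⤳ y₀ := hl ▸ specializes_of_gen z W l hl1
    refine ⟨hz, fun u => ?_⟩
    obtain ⟨ψl, hψl⟩ := ValSquare.exists_factor l y₀ hl
    have e : ψl ≫ CommRingCat.ofHom W.subtype =
        Y.presheaf.stalkSpecializes hz ≫ Y.residue z := by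
      apply Spec.map_injective
      rw [← cancel_mono (Y.fromSpecStalk _), Spec.map_comp, Category.assoc, hψl]
      simp only [Spec.map_comp, Category.assoc, Scheme.SpecMap_stalkSpecializes_fromSpecStalk]
      rw [← Scheme.fromSpecResidueField]
      exact hl1
    exact congr(($e).hom u) ▸ (ψl.hom u).2
  obtain ⟨W, hW, hmem, hc⟩ := exists_dvr φA.hom ∅ hclo (maximalIdeal _) hkerm
  obtain ⟨hz, -⟩ := key W hW hmem hc
  let θ : Y.presheaf.stalk y₀ ⟶ Y.residueField z := Y.presheaf.stalkSpecializes hz ≫ Y.residue z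
  have hθR : ∀ u, θ.hom u ∈ R := by
    intro u
    by_contra hu
    have hu0 : θ.hom u ≠ 0 := fun h => hu (h ▸ R.zero_mem)
    let ev : Polynomial (X.presheaf.stalk (f y₀)) →+* R :=
      Polynomial.eval₂RingHom ψ.hom ⟨(θ.hom u)⁻¹, (R.mem_or_inv_mem _).resolve_left hu⟩
    let evL : Polynomial (X.presheaf.stalk (f y₀)) →+* Y.residueField z := R.subtype.comp ev
    have hC : ∀ r, evL (Polynomial.C r) = φA.hom r := fun r =>
      (congrArg Subtype.val (Polynomial.eval₂_C _ _)).trans congr(($hψ).hom r)
    have hevX : evL Polynomial.X = (θ.hom u)⁻¹ := congrArg Subtype.val (Polynomial.eval₂_X _ _)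
    have hX : Polynomial.X ∈ (maximalIdeal R).comap ev := fun hun => by
      obtain ⟨c, hc⟩ := isUnit_iff_exists_inv.1 hun
      have hc' : (θ.hom u)⁻¹ * (c : Y.residueField z) = 1 := by
        rw [← hevX]; exact congrArg Subtype.val hc
      exact hu ((inv_inv (θ.hom u)) ▸ (inv_eq_of_mul_eq_one_right hc') ▸ c.2)
    have hlt : RingHom.ker evL < (maximalIdeal R).comap ev := by
      refine lt_of_le_of_ne (fun r hr => ?_) fun e => ?_
      · rw [Ideal.mem_comap, show ev r = 0 from Subtype.ext hr]
        exact zero_mem _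
      · rw [← e, RingHom.mem_ker, hevX, inv_eq_zero] at hX
        exact hu0 hX
    have hclo' : Subfield.closure (Set.range evL ∪ ((∅ : Finset (Y.residueField z)) : Set _)) = ⊤ := by
      refine eq_top_iff.2 (hclo.ge.trans (Subfield.closure_mono (Set.union_subset_union_left _ ?_)))
      rintro _ ⟨r, rfl⟩
      exact ⟨Polynomial.C r, hC r⟩
    obtain ⟨W, hW, hmem, hc⟩ := exists_dvr evL ∅ hclo' _ hlt
    have hmem' : ∀ r, φA.hom r ∈ W := fun r => hC r ▸ hmem (Polynomial.C r)
    obtain ⟨hz', hW'⟩ := key W hW hmem' (by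
      have hψ' : (ev.comp Polynomial.C) = ψ.hom := RingHom.ext fun r => Polynomial.eval₂_C _ _
      have e : φA.hom.codRestrict W.toSubring hmem' =
          (evL.codRestrict W.toSubring hmem).comp Polynomial.C :=
        RingHom.ext fun r => Subtype.ext (hC r).symm
      rw [e, ← Ideal.comap_comap, hc, Ideal.comap_comap, hψ', hψc])
    have h1 : evL.codRestrict W.toSubring hmem Polynomial.X ∈ maximalIdeal W := by
      rw [← Ideal.mem_comap, hc]; exact hX
    refine h1 (isUnit_iff_exists_inv.2 ⟨⟨θ.hom u, hW' u⟩, Subtype.ext ?_⟩)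
    show evL Polynomial.X * θ.hom u = 1
    rw [hevX, inv_mul_cancel₀ hu0]
  let θR : Y.presheaf.stalk y₀ ⟶ CommRingCat.of R :=
    CommRingCat.ofHom (θ.hom.codRestrict R.toSubring hθR)
  have hl : gen R ≫ Spec.map θR ≫ Y.fromSpecStalk y₀ = Y.fromSpecResidueField z := by
    rw [← Category.assoc, ← Spec.map_comp]
    show Spec.map (Y.presheaf.stalkSpecializes hz ≫ Y.residue z) ≫ _ = _
    rw [Spec.map_comp, Category.assoc, Scheme.SpecMap_stalkSpecializes_fromSpecStalk,
      Scheme.fromSpecResidueField]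
  refine ⟨Spec.map θR ≫ Y.fromSpecStalk y₀, hl, ?_⟩
  rw [Category.assoc, ← Scheme.SpecMap_stalkMap_fromSpecStalk, ← Category.assoc, ← Spec.map_comp, ← hψφ]
  congr 2
  ext r
  show θ.hom ((f.stalkMap y₀).hom r) = _
  rw [show ((ψ.hom r : R) : Y.residueField z) = _ from congr(($hψ).hom r)]
  show (Y.residue z).hom _ = (Y.residue z).hom _
  congr 1
  exact congr(($(Scheme.Hom.stalkSpecializes_stalkMap f _ _ hz)).hom r).symm

include H in
/-- Base changes reflect specializations. -/
theorem specializes_of_mono {X' : Scheme.{u}} (g : X' ⟶ X) (y₀ y₁ : ↥(pullback f g))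
    (h : pullback.snd f g y₁ ⤳ pullback.snd f g y₀) : y₁ ⤳ y₀ := by
  let P : Scheme.{u} := pullback f g
  let p : P ⟶ X' := pullback.snd f g
  have h' : p y₁ ⤳ p y₀ := h
  let θ : X'.presheaf.stalk (p y₀) ⟶ P.residueField y₁ :=
    X'.presheaf.stalkSpecializes h' ≫ p.stalkMap y₁ ≫ P.residue y₁
  obtain ⟨R, hR, hloc⟩ := exists_factor_valuationRing θ.hom
  let ψ : X'.presheaf.stalk (p y₀) ⟶ CommRingCat.of R :=
    CommRingCat.ofHom (θ.hom.codRestrict R.toSubring hR)
  let φ' := Spec.map ψ ≫ X'.fromSpecStalk (p y₀)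
  have hφ'c : φ' (closedPoint R) = p y₀ := by
    haveI : IsLocalHom ψ.hom := hloc
    have e : (Spec.map ψ) (closedPoint R) = closedPoint _ := comap_closedPoint ψ.hom
    rw [Scheme.Hom.comp_apply, e, Scheme.fromSpecStalk_closedPoint]
  have hφ'g : gen R ≫ φ' = P.fromSpecResidueField y₁ ≫ p := by
    rw [← Category.assoc, ← Spec.map_comp]
    show Spec.map θ ≫ _ = _
    simp only [θ, Spec.map_comp, Category.assoc, Scheme.SpecMap_stalkSpecializes_fromSpecStalk,
      Scheme.SpecMap_stalkMap_fromSpecStalk]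
    rw [Scheme.fromSpecResidueField, Category.assoc]
  let q : P ⟶ Y := pullback.fst f g
  have hg : Spec.map (q.residueFieldMap y₁) ≫ Y.fromSpecResidueField (q y₁) =
      P.fromSpecResidueField y₁ ≫ q := Scheme.Hom.SpecMap_residueFieldMap_fromSpecResidueField _ _
  let ρ := ValSquare.comapRestrict R (q.residueFieldMap y₁).hom
  obtain ⟨φ₀, ⟨h1, h2⟩, -⟩ := ValSquare.existsUnique_factor_residueField f _ R
    (P.fromSpecResidueField y₁ ≫ q) (φ' ≫ g)
    (by
      rw [← Category.assoc]
      exact (congrArg (· ≫ g) hφ'g).trans (by rw [Category.assoc, Category.assoc]; exact congrArg _ pullback.condition.symm))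
    _ (q.residueFieldMap y₁) hg ρ (fun _ => rfl)
  haveI : IsLocalHom ρ := ⟨fun a ha => by
    obtain ⟨b, hb⟩ := isUnit_iff_exists_inv.1 ha
    have hb' : (q.residueFieldMap y₁).hom a.1 * (b : P.residueField y₁) = 1 := congrArg Subtype.val hb
    have ha0 : a.1 ≠ 0 := fun h => by
      rw [h, map_zero, zero_mul] at hb'
      exact zero_ne_one hb'
    refine isUnit_iff_exists_inv.2 ⟨⟨a.1⁻¹, ?_⟩, Subtype.ext (mul_inv_cancel₀ ha0)⟩
    show (q.residueFieldMap y₁).hom a.1⁻¹ ∈ R
    rw [map_inv₀, inv_eq_of_mul_eq_one_right hb']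
    exact b.2⟩
  obtain ⟨l, hl1, hl2⟩ := exists_lift_of_mono f H (q y₁) (q y₀) (R.comap (q.residueFieldMap y₁).hom) φ₀ h2 (by
    rw [← ValSquare.map_closedPoint ρ]
    show (Spec.map (CommRingCat.ofHom ρ) ≫ φ₀) (closedPoint R) = _
    rw [h1, Scheme.Hom.comp_apply, hφ'c, ← Scheme.Hom.comp_apply, ← Scheme.Hom.comp_apply,
      pullback.condition])
  let L : Spec (CommRingCat.of R) ⟶ P :=
    pullback.lift (Spec.map (CommRingCat.ofHom ρ) ≫ l) φ' (by rw [Category.assoc, hl2, h1])
  have hLg : gen R ≫ L = P.fromSpecResidueField y₁ := by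
    apply pullback.hom_ext
    · rw [Category.assoc, pullback.lift_fst, ← Category.assoc, ← Spec.map_comp,
        show CommRingCat.ofHom ρ ≫ CommRingCat.ofHom R.subtype =
          CommRingCat.ofHom (R.comap (q.residueFieldMap y₁).hom).subtype ≫ q.residueFieldMap y₁ from rfl,
        Spec.map_comp, Category.assoc]
      exact (congrArg (Spec.map (q.residueFieldMap y₁) ≫ ·) hl1).trans hg
    · rw [Category.assoc, pullback.lift_snd]
      exact hφ'g
  have hLc : L (closedPoint R) = y₀ := by
    refine Scheme.Hom.injective p ?_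
    rw [← Scheme.Hom.comp_apply, pullback.lift_snd, hφ'c]
  have := specializes_of_gen (Y := P) y₁ R L hLg
  rw [hLc] at this
  exact this

end Groth.Agent.Lib.DvrCrit
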