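import Groth.Agent.Lib.DvrCrit.AtPointGen
import Groth.Agent.Lib.DvrCrit.Abstract
import Groth.Agent.Lib.FinCond.Components
import Groth.Agent.H75.RedKer
import Groth.Agent.H75.RedSub

/-!
# Properness at a point of the closure of a subset, via sections over discrete valuation rings
-/

set_option autoImplicit false
set_option linter.unusedVariables false
set_option backward.isDefEq.respectTransparency false
universe u
open CategoryTheory Limits AlgebraicGeometry IsLocalRing

namespace Groth.Agent.Lib.DvrCrit

variable {X Y : Scheme.{u}}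

/-- Two field-valued points with equal composites, at a point where the residue extension is trivial. -/
theorem point_ext (q : X ⟶ Y) (x : X) (hx : Function.Bijective (q.residueFieldMap x).hom)
    {K : Type u} [Field K] (σ σ' : Spec (CommRingCat.of K) ⟶ X) (hσ : σ (closedPoint K) = x)
    (hσ' : σ' (closedPoint K) = x) (h : σ ≫ q = σ' ≫ q) : σ = σ' := by
  obtain ⟨⟨a, g⟩, ha⟩ := (Scheme.SpecToEquivOfField K X).symm.surjective σ
  obtain ⟨⟨b, g'⟩, hb⟩ := (Scheme.SpecToEquivOfField K X).symm.surjective σ'
  change Spec.map g ≫ X.fromSpecResidueField a = σ at ha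
  change Spec.map g' ≫ X.fromSpecResidueField b = σ' at hb
  have ha' : a = x := by
    rw [← hσ, ← ha, Scheme.Hom.comp_apply, Scheme.fromSpecResidueField_apply]
  have hb' : b = x := by
    rw [← hσ', ← hb, Scheme.Hom.comp_apply, Scheme.fromSpecResidueField_apply]
  subst ha' hb'
  rw [← ha, ← hb, Category.assoc, Category.assoc,
    ← Scheme.Hom.SpecMap_residueFieldMap_fromSpecResidueField, ← Category.assoc, ← Category.assoc,
    cancel_mono, ← Spec.map_comp, ← Spec.map_comp] at h
  have e := Spec.map_injective h
  rw [← ha, ← hb]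
  congr 2
  ext r
  obtain ⟨s, rfl⟩ := hx.2 r
  exact congr(($e).hom s)

/-- The residue extension at a point carrying a field-valued point over an epimorphic one. -/
theorem residueFieldMap_bijective (q : X ⟶ Y) {K : Type u} [Field K]
    (σ : Spec (CommRingCat.of K) ⟶ X) (ρ : Y.residueField (q (σ (closedPoint K))) ⟶ CommRingCat.of K)
    (hρ : Function.Surjective ρ.hom)
    (h : σ ≫ q = Spec.map ρ ≫ Y.fromSpecResidueField _) :
    Function.Bijective (q.residueFieldMap (σ (closedPoint K))).hom := by
  obtain ⟨⟨a, g⟩, ha⟩ := (Scheme.SpecToEquivOfField K X).symm.surjective σ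
  change Spec.map g ≫ X.fromSpecResidueField a = σ at ha
  have ha' : σ (closedPoint K) = a := by
    rw [← ha, Scheme.Hom.comp_apply, Scheme.fromSpecResidueField_apply]
  refine ⟨(q.residueFieldMap _).hom.injective, fun r => ?_⟩
  generalize hb : σ (closedPoint K) = b at ρ hρ h r ⊢
  rw [hb] at ha'
  subst ha'
  rw [← ha, Category.assoc, ← Scheme.Hom.SpecMap_residueFieldMap_fromSpecResidueField,
    ← Category.assoc, cancel_mono, ← Spec.map_comp] at h
  have e := Spec.map_injective h
  obtain ⟨s, hs⟩ := hρ (g.hom r)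
  exact ⟨s, g.hom.injective (by rw [← hs, ← e]; rfl)⟩

variable {A : Type u} [CommRing A] [IsDomain A] [IsDiscreteValuationRing A]

/-- The generic point of the spectrum of a domain, as a field-valued point. -/
noncomputable abbrev genSpec : Spec (CommRingCat.of (FractionRing A)) ⟶ Spec (CommRingCat.of A) :=
  Spec.map (CommRingCat.ofHom (algebraMap A (FractionRing A)))

theorem genSpec_point (p : Spec (CommRingCat.of (FractionRing A))) :
    genSpec p = genericPoint (Spec (CommRingCat.of A)) := by
  refine ((genericPoint_spec _).eq (isGenericPoint_iff_specializes.2 fun y => ⟨fun _ => trivial,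
    fun _ => (PrimeSpectrum.le_iff_specializes _ _).1 ?_⟩)).symm
  intro a ha
  have h1 : algebraMap A (FractionRing A) a ∈ p.asIdeal := ha
  have h2 : p.asIdeal = ⊥ :=
    ((Ideal.eq_bot_or_top p.asIdeal).resolve_right p.2.ne_top)
  rw [h2, Ideal.mem_bot] at h1
  rw [(IsFractionRing.injective A (FractionRing A)) (h1.trans (map_zero _).symm)]
  exact zero_mem _

theorem exists_rho (η : Spec (CommRingCat.of A)) (hη : η = genericPoint (Spec (CommRingCat.of A))) :
    ∃ ρ : (Spec (CommRingCat.of A)).residueField η ⟶ CommRingCat.of (FractionRing A),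
      Spec.map ρ ≫ (Spec (CommRingCat.of A)).fromSpecResidueField η = genSpec ∧
        Function.Surjective ρ.hom := by
  obtain ⟨⟨b, ρ⟩, hb⟩ := (Scheme.SpecToEquivOfField (FractionRing A) _).symm.surjective (genSpec (A := A))
  change Spec.map ρ ≫ Scheme.fromSpecResidueField _ b = genSpec at hb
  have hb' : b = η := by
    rw [hη, ← genSpec_point (closedPoint (FractionRing A)), ← hb, Scheme.Hom.comp_apply,
      Scheme.fromSpecResidueField_apply]
  subst hb'
  refine ⟨ρ, hb, fun x => ?_⟩
  obtain ⟨ψ, hψ⟩ := Spec.map_surjective ((Spec (CommRingCat.of A)).fromSpecResidueField b)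
  rw [← hψ, ← Spec.map_comp] at hb
  have e := Spec.map_injective hb
  have hsub : ∀ a, algebraMap A (FractionRing A) a ∈ (ρ.hom).fieldRange :=
    fun a => ⟨ψ.hom a, congr(($e).hom a)⟩
  obtain ⟨a, b, -, rfl⟩ := IsFractionRing.div_surjective (A := A) x
  exact div_mem (hsub a) (hsub b)

omit [IsDiscreteValuationRing A] in
theorem eq_of_genSpec_point (p : Spec (CommRingCat.of A)) {B : Scheme.{u}} (s : Spec (CommRingCat.of A) ⟶ B)
    (q : B ⟶ Spec (CommRingCat.of A)) (hs : s ≫ q = 𝟙 _) (x : B) (hp : s p = x) : p = q x := by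
  rw [← hp, ← Scheme.Hom.comp_apply, hs]
  rfl

omit [IsDiscreteValuationRing A] in
theorem isProper_of_closed_range {T S B : Scheme.{u}} (g : T ⟶ S) (CU : TopologicalSpace.Closeds T)
    (k : B ⟶ T) [IsClosedImmersion k] [IsReduced B] (hk : Set.range k = (CU : Set T))
    (hP : IsProper (k ≫ g)) :
    IsProper ((Scheme.IdealSheafData.vanishingIdeal CU).subschemeι ≫ g) := by
  let j := (Scheme.IdealSheafData.vanishingIdeal CU).subschemeι
  have hj : Set.range j = (CU : Set T) := by
    rw [Scheme.IdealSheafData.range_subschemeι, Scheme.IdealSheafData.coe_support_vanishingIdeal]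
  obtain ⟨a, ha⟩ := H75.RedKer.exists_lift j k (hj.trans hk.symm).le
  obtain ⟨b, hb⟩ := H75.RedKer.exists_lift k j (hk.trans hj.symm).le
  haveI : IsIso a := ⟨b, (cancel_mono j).1 (by rw [Category.assoc, hb, ha, Category.id_comp]),
    (cancel_mono k).1 (by rw [Category.assoc, ha, hb, Category.id_comp])⟩
  show IsProper (j ≫ g)
  rw [← ha, Category.assoc]
  infer_instance

end Groth.Agent.Lib.DvrCrit
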