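import Groth.Agent.S4433
import Mathlib.RingTheory.Polynomial.Basic

/-!
# Discrete valuation rings centred at a prime
-/

set_option autoImplicit false
set_option backward.isDefEq.respectTransparency false
universe u

namespace Groth.Agent.Lib.DvrCrit

/-- `A` Noetherian, `L` finitely generated over the image of `A`, `q` strictly above the kernel:
there is a discrete valuation ring of `L` centred at `q`. -/
theorem exists_dvr {A L : Type u} [CommRing A] [IsNoetherianRing A] [Field L] (φ : A →+* L)
    (s : Finset L) (hs : Subfield.closure (Set.range φ ∪ (s : Set L)) = ⊤)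
    (q : Ideal A) [q.IsPrime] (hq : RingHom.ker φ < q) :
    ∃ W : ValuationSubring L, IsDiscreteValuationRing W ∧
      ∃ hW : ∀ a, φ a ∈ W, (IsLocalRing.maximalIdeal W).comap (φ.codRestrict W.toSubring hW) = q := by
  classical
  let R := φ.range
  let ρ : A →+* R := φ.rangeRestrict
  have hρ : Function.Surjective ρ := φ.rangeRestrict_surjective
  have hker : RingHom.ker ρ = RingHom.ker φ := φ.ker_rangeRestrict
  let Q : Ideal R := q.map ρ
  have hQp : Q.IsPrime := Ideal.map_isPrime_of_surjective hρ (hker.le.trans hq.le)
  have hQq : Q.comap ρ = q := by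
    rw [Ideal.comap_map_of_surjective ρ hρ, ← RingHom.ker_eq_comap_bot, hker, sup_eq_left]
    exact hq.le
  have : IsNoetherianRing R := isNoetherianRing_of_surjective A R ρ hρ
  let B := Localization.AtPrime Q
  have : IsNoetherianRing B := IsLocalization.isNoetherianRing Q.primeCompl B ‹_›
  have : IsDomain B := IsLocalization.isDomain_localization Q.primeCompl_le_nonZeroDivisors
  let g : B →+* L := IsLocalization.lift (M := Q.primeCompl) (g := R.subtype) fun y =>
    isUnit_iff_ne_zero.2 fun h => y.2 ((show (y : R) = 0 from Subtype.ext h) ▸ Q.zero_mem)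
  have hg : ∀ r : R, g (algebraMap R B r) = (r : L) := fun r => IsLocalization.lift_eq _ r
  have hginj : Function.Injective g := by
    refine (IsLocalization.lift_injective_iff (S := B) _).2 fun x y => ?_
    exact ⟨fun h => by simpa [hg] using congrArg g h, fun h => by rw [Subtype.ext h]⟩
  let K := FractionRing B
  let gK : K →+* L := IsFractionRing.lift hginj
  algebraize [g, gK]
  have : IsScalarTower B K L := IsScalarTower.of_algebraMap_eq fun b =>
    (IsFractionRing.lift_algebraMap hginj b).symm
  have hfg : (⊤ : IntermediateField K L).FG := by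
    refine ⟨s, eq_top_iff.2 fun x _ => ?_⟩
    have hx : x ∈ Subfield.closure (Set.range φ ∪ (s : Set L)) := hs ▸ Subfield.mem_top x
    refine (Subfield.closure_le.2 ?_ : _ ≤ (IntermediateField.adjoin K (s : Set L)).toSubfield) hx
    rintro _ (⟨a, rfl⟩ | h)
    · have e : φ a = algebraMap K L (algebraMap B K (algebraMap R B (ρ a))) := by
        rw [← IsScalarTower.algebraMap_apply B K L]
        exact (hg (ρ a)).symm
      rw [e]
      exact (IntermediateField.adjoin K (s : Set L)).algebraMap_mem _
    · exact IntermediateField.subset_adjoin K _ h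
  have hB : ¬ IsField B := by
    intro hF
    obtain ⟨a, ha, ha0⟩ := SetLike.exists_of_lt hq
    have h1 : algebraMap R B (ρ a) ∈ IsLocalRing.maximalIdeal B :=
      (IsLocalization.AtPrime.to_map_mem_maximal_iff B Q _).2 (Ideal.mem_map_of_mem ρ ha)
    rw [IsLocalRing.isField_iff_maximalIdeal_eq.1 hF, Ideal.mem_bot] at h1
    refine ha0 ?_
    rw [RingHom.mem_ker, show φ a = g (algebraMap R B (ρ a)) from (hg (ρ a)).symm, h1, map_zero]
  obtain ⟨W, hW, hmem, hlt⟩ := Groth.Agent.S4433.result B hB K L hfg
  have hWA : ∀ a, φ a ∈ W := fun a => by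
    have := hmem (algebraMap R B (ρ a))
    rwa [show algebraMap B L (algebraMap R B (ρ a)) = φ a from hg _] at this
  refine ⟨W, hW, hWA, ?_⟩
  ext a
  rw [Ideal.mem_comap, ← hQq, Ideal.mem_comap,
    ← IsLocalization.AtPrime.to_map_mem_maximal_iff B Q (ρ a)]
  constructor
  · intro h
    by_contra hn
    obtain ⟨b, hb⟩ := isUnit_iff_exists_inv.1 (IsLocalRing.notMem_maximalIdeal.1 hn)
    have h1 : φ.codRestrict W.toSubring hWA a * (⟨_, hmem b⟩ : W) = 1 := Subtype.ext (by
      have := congrArg (algebraMap B L) hb
      rw [map_mul, map_one, show algebraMap B L (algebraMap R B (ρ a)) = φ a from hg _] at this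
      exact this)
    exact h (isUnit_iff_exists_inv.2 ⟨_, h1⟩)
  · intro h
    refine (ValuationSubring.valuation_lt_one_iff W _).2 ?_
    have := hlt _ h
    rwa [show algebraMap B L (algebraMap R B (ρ a)) = φ a from hg _] at this

end Groth.Agent.Lib.DvrCrit
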