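import Groth.Agent.Lib.DvrCrit.Birational
import Groth.Agent.Lib.Lim.LocalProper
import Groth.Agent.Lib.ValSquare.Dominant
import Mathlib.AlgebraicGeometry.Morphisms.FiniteType
import Mathlib.AlgebraicGeometry.Noetherian

/-!
# Valuative criteria tested on discrete valuation rings
-/

set_option autoImplicit false
set_option backward.isDefEq.respectTransparency false
universe u
open CategoryTheory Limits AlgebraicGeometry IsLocalRing

namespace Groth.Agent.Lib.DvrCrit

variable {X S Z : Scheme.{u}}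

/-- If the discrete valuation rings of a residue field lift, then so do all valuation rings. -/
theorem exists_lift_of_dvr_at [IsLocallyNoetherian S] (f : X ⟶ S) [LocallyOfFiniteType f]
    [QuasiCompact f] (m : Z ⟶ X) [LocallyOfFiniteType (m ≫ f)] (z : Z)
    (t : S) (H : ∀ W : ValuationSubring (Z.residueField z), IsDiscreteValuationRing W →
      ∀ φ : Spec (CommRingCat.of W) ⟶ S, φ (closedPoint W) = t →
      gen W ≫ φ = Z.fromSpecResidueField z ≫ m ≫ f →
      ∃ l : Spec (CommRingCat.of W) ⟶ X, gen W ≫ l = Z.fromSpecResidueField z ≫ m ∧ l ≫ f = φ)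
    (R : ValuationSubring (Z.residueField z)) (φ : Spec (CommRingCat.of R) ⟶ S)
    (ht : φ (closedPoint R) = t) (w : gen R ≫ φ = Z.fromSpecResidueField z ≫ m ≫ f) :
    ∃ l : Spec (CommRingCat.of R) ⟶ X, gen R ≫ l = Z.fromSpecResidueField z ≫ m ∧ l ≫ f = φ := by
  classical
  obtain ⟨V, hV, hsV, -⟩ := exists_isAffineOpen_mem_and_subset (x := φ (closedPoint R))
    (U := (⊤ : S.Opens)) trivial
  obtain ⟨ψ, hψ⟩ := exists_chart φ hV hsV
  let ψL : Γ(S, V) ⟶ Z.residueField z := ψ ≫ CommRingCat.ofHom R.subtype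
  have hψL : Spec.map ψL ≫ hV.fromSpec = Z.fromSpecResidueField z ≫ m ≫ f := by
    rw [Spec.map_comp, Category.assoc, hψ, w]
  obtain ⟨Us, hUs, hcov⟩ := (isCompact_iff_finite_and_eq_biUnion_affineOpens (U := f ⁻¹ᵁ V)).1
    (f.isCompact_preimage hV.isCompact)
  have hsub : ∀ U ∈ Us, (U : X.Opens) ≤ f ⁻¹ᵁ V := fun U hU => hcov ▸ le_iSup₂_of_le U hU le_rfl
  have hxV : m z ∈ f ⁻¹ᵁ V := by
    show f (m z) ∈ V
    refine fromSpecResidueField_point z (m ≫ f) (closedPoint (Z.residueField z)) ▸ ?_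
    exact hψL ▸ mem_of_chart hV ψL _
  by_cases hgood : ∃ U ∈ Us, ∃ χ : Γ(X, (U : X.Opens)) ⟶ Z.residueField z,
      Spec.map χ ≫ U.2.fromSpec = Z.fromSpecResidueField z ≫ m ∧ ∀ b, χ.hom b ∈ R
  · obtain ⟨U, hU, χ, hχ, hmem⟩ := hgood
    let χR : Γ(X, (U : X.Opens)) ⟶ CommRingCat.of R :=
      CommRingCat.ofHom (χ.hom.codRestrict R.toSubring hmem)
    have e : χR ≫ CommRingCat.ofHom R.subtype = χ := rfl
    refine ⟨Spec.map χR ≫ U.2.fromSpec, ?_, ?_⟩
    · rw [← Category.assoc, ← Spec.map_comp, e, hχ]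
    · rw [← chart_comp f U.2 hV (hsub U hU) χR]
      suffices f.appLE V U (hsub U hU) ≫ χR = ψ by rw [this, hψ]
      have h1 : (f.appLE V U (hsub U hU) ≫ χR) ≫ CommRingCat.ofHom R.subtype = ψL := by
        rw [Category.assoc, e]
        refine chart_ext hV _ _ ?_
        rw [chart_comp f U.2 hV (hsub U hU) χ, hχ, hψL, Category.assoc]
      ext a
      exact congr(($h1).hom a)
  exfalso
  push Not at hgood
  let J := {U : X.affineOpens // U ∈ Us ∧ m z ∈ (U : X.Opens)}
  haveI : Finite J := (hUs.subset (fun U h => h.1) : {U | U ∈ Us ∧ m z ∈ (U : X.Opens)}.Finite).to_subtype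
  haveI := Fintype.ofFinite J
  have hχ : ∀ k : J, ∃ χ : Γ(X, (k.1 : X.Opens)) ⟶ Z.residueField z,
      Spec.map χ ≫ k.1.2.fromSpec = Z.fromSpecResidueField z ≫ m := fun k =>
    exists_chart _ k.1.2 (mem_of_point z m _ k.2.2)
  choose χ hχ using hχ
  have hbad : ∀ k : J, ∃ b, (χ k).hom b ∉ R := fun k => hgood k.1 k.2.1 (χ k) (hχ k)
  choose b hb using hbad
  have hb0 : ∀ k, (χ k).hom (b k) ≠ 0 := fun k h0 => hb k (h0 ▸ R.zero_mem)
  let i : J → R := fun k => ⟨((χ k).hom (b k))⁻¹, (R.mem_or_inv_mem _).resolve_left (hb k)⟩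
  have hi : ∀ k, i k ∈ maximalIdeal R := fun k hu => by
    obtain ⟨c, hc⟩ := isUnit_iff_exists_inv.1 hu
    have hc' : ((χ k).hom (b k))⁻¹ * (c : Z.residueField z) = 1 := congrArg Subtype.val hc
    have : (χ k).hom (b k) = c := by
      rw [← inv_inv ((χ k).hom (b k))]
      exact inv_eq_of_mul_eq_one_right hc'
    exact hb k (this ▸ c.2)
  have : IsNoetherianRing Γ(S, V) := IsLocallyNoetherian.component_noetherian ⟨V, hV⟩
  obtain ⟨s, hs⟩ := exists_fg (m ≫ f) z hV ψL hψL
  let ev : MvPolynomial J Γ(S, V) →+* R := MvPolynomial.eval₂Hom ψ.hom i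
  let evL : MvPolynomial J Γ(S, V) →+* Z.residueField z := R.subtype.comp ev
  obtain ⟨U₀, hU₀, hzU₀⟩ : ∃ U ∈ Us, m z ∈ (U : X.Opens) := by
    have := hxV
    rw [hcov] at this
    simpa using this
  let k₀ : J := ⟨U₀, hU₀, hzU₀⟩
  have hevX : ∀ k, ev (MvPolynomial.X k) = i k := fun k => MvPolynomial.eval₂Hom_X' _ _ k
  have hlt : RingHom.ker evL < (maximalIdeal R).comap ev := by
    refine lt_of_le_of_ne ?_ ?_
    · intro a ha
      rw [Ideal.mem_comap, show ev a = 0 from Subtype.ext ha]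
      exact zero_mem _
    · intro e
      have h1 : MvPolynomial.X k₀ ∈ RingHom.ker evL := by
        rw [e, Ideal.mem_comap, hevX]; exact hi k₀
      rw [RingHom.mem_ker] at h1
      change (ev (MvPolynomial.X k₀) : Z.residueField z) = 0 at h1
      rw [hevX] at h1
      exact inv_ne_zero (hb0 k₀) h1
  have hclo : Subfield.closure (Set.range evL ∪ (s : Set (Z.residueField z))) = ⊤ := by
    refine eq_top_iff.2 (hs.ge.trans (Subfield.closure_mono (Set.union_subset_union_left _ ?_)))
    rintro _ ⟨a, rfl⟩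
    exact ⟨MvPolynomial.C a, congrArg Subtype.val (MvPolynomial.eval₂Hom_C ψ.hom i a)⟩
  obtain ⟨W, hW, hmemW, hcomap⟩ := exists_dvr evL s hclo ((maximalIdeal R).comap ev) hlt
  let ψW : Γ(S, V) ⟶ CommRingCat.of W :=
    CommRingCat.ofHom ((evL.codRestrict W.toSubring hmemW).comp MvPolynomial.C)
  have hψW : ψW ≫ CommRingCat.ofHom W.subtype = ψL := by
    ext a
    exact congrArg Subtype.val (MvPolynomial.eval₂Hom_C ψ.hom i a)
  have hct : (Spec.map ψW ≫ hV.fromSpec) (closedPoint W) = t := by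
    rw [← ht, ← hψ, Scheme.Hom.comp_apply, Scheme.Hom.comp_apply]
    congr 1
    refine PrimeSpectrum.ext ?_
    show (maximalIdeal W).comap ((evL.codRestrict W.toSubring hmemW).comp MvPolynomial.C) =
      (maximalIdeal R).comap ψ.hom
    rw [← Ideal.comap_comap, hcomap, Ideal.comap_comap]
    exact congrArg (Ideal.comap · _) (MvPolynomial.eval₂Hom_comp_C ψ.hom i)
  obtain ⟨l, hl1, hl2⟩ := H W hW (Spec.map ψW ≫ hV.fromSpec) hct (by
    rw [← Category.assoc, ← Spec.map_comp, hψW, hψL])
  have hlV : l (closedPoint W) ∈ f ⁻¹ᵁ V := by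
    show (l ≫ f) (closedPoint W) ∈ V
    rw [hl2]
    exact mem_of_chart hV ψW _
  obtain ⟨U, hU, hlU⟩ : ∃ U ∈ Us, l (closedPoint W) ∈ (U : X.Opens) := by
    have := hlV
    rw [hcov] at this
    simpa using this
  have hzU : m z ∈ (U : X.Opens) := by
    refine (?_ : m z ⤳ l (closedPoint W)).mem_open U.1.2 hlU
    refine fromSpecResidueField_point z m (closedPoint (Z.residueField z)) ▸ ?_
    exact gen_specializes W l _ hl1
  let k : J := ⟨U, hU, hzU⟩
  obtain ⟨χW, hχW⟩ := exists_chart l U.2 hlU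
  have hk : χW ≫ CommRingCat.ofHom W.subtype = χ k := by
    refine chart_ext U.2 _ _ ?_
    rw [Spec.map_comp, Category.assoc, hχW, hl1]
    exact (hχ k).symm
  have h1 : evL.codRestrict W.toSubring hmemW (MvPolynomial.X k) ∈ maximalIdeal W := by
    have : MvPolynomial.X k ∈ (maximalIdeal R).comap ev := by
      rw [Ideal.mem_comap, hevX]; exact hi k
    rwa [← hcomap] at this
  refine h1 (isUnit_iff_exists_inv.2 ⟨χW.hom (b k), Subtype.ext ?_⟩)
  show (ev (MvPolynomial.X k) : Z.residueField z) * (χW ≫ CommRingCat.ofHom W.subtype).hom (b k) = 1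
  rw [hevX, hk]
  exact inv_mul_cancel₀ (hb0 k)

/-- If the valuation rings centred at `y` lift then so do those centred at generalizations of `y`. -/
theorem exists_lift_of_specializes (f : X ⟶ S) {L : Type u} [Field L]
    (j : Spec (CommRingCat.of L) ⟶ X) (y : S)
    (H : ∀ (R : ValuationSubring L) (φ : Spec (CommRingCat.of R) ⟶ S), φ (closedPoint R) = y →
      gen R ≫ φ = j ≫ f → ∃ l : Spec (CommRingCat.of R) ⟶ X, gen R ≫ l = j ∧ l ≫ f = φ)
    (R : ValuationSubring L) (φ : Spec (CommRingCat.of R) ⟶ S) (hy : φ (closedPoint R) ⤳ y)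
    (w : gen R ≫ φ = j ≫ f) :
    ∃ l : Spec (CommRingCat.of R) ⟶ X, gen R ≫ l = j ∧ l ≫ f = φ := by
  let ψ : S.presheaf.stalk y ⟶ CommRingCat.of R :=
    S.presheaf.stalkSpecializes hy ≫ Scheme.stalkClosedPointTo φ
  have hψ : Spec.map ψ ≫ S.fromSpecStalk y = φ := by
    rw [Spec.map_comp, Category.assoc, Scheme.SpecMap_stalkSpecializes_fromSpecStalk,
      Scheme.Spec_stalkClosedPointTo_fromSpecStalk]
  obtain ⟨Rt, hRt, hloc⟩ := exists_factor_valuationRing ((residue R).comp ψ.hom)
  let P : Subring R := Rt.toSubring.comap (residue R)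
  let R₂ : ValuationSubring L :=
    { P.map R.subtype with
      mem_or_inv_mem' := by
        have key : ∀ x ∈ R, x ∈ P.map R.subtype ∨ x⁻¹ ∈ P.map R.subtype := by
          intro x hx
          rcases Rt.mem_or_inv_mem (residue R ⟨x, hx⟩) with hr | hr
          · exact Or.inl ⟨⟨x, hx⟩, hr, rfl⟩
          · by_cases h0 : residue R ⟨x, hx⟩ = 0
            · exact Or.inl ⟨⟨x, hx⟩, show residue R ⟨x, hx⟩ ∈ Rt from h0 ▸ Rt.zero_mem, rfl⟩
            · obtain ⟨b, hb⟩ := isUnit_iff_exists_inv.mp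
                ((residue_ne_zero_iff_isUnit (⟨x, hx⟩ : R)).mp h0)
              refine Or.inr ⟨b, show residue R b ∈ Rt from ?_,
                (inv_eq_of_mul_eq_one_right (congrArg Subtype.val hb)).symm⟩
              rwa [← inv_eq_of_mul_eq_one_right (by rw [← map_mul, hb, map_one] :
                residue R ⟨x, hx⟩ * residue R b = 1)]
        intro x
        rcases R.mem_or_inv_mem x with hx | hx
        · exact key x hx
        · exact (key _ hx).symm.imp_left fun h => inv_inv x ▸ h }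
  have hmem : ∀ a, ((ψ.hom a : R) : L) ∈ R₂ := fun a => ⟨ψ.hom a, hRt a, rfl⟩
  let ψ₂ : S.presheaf.stalk y ⟶ CommRingCat.of R₂ :=
    CommRingCat.ofHom ((R.subtype.comp ψ.hom).codRestrict R₂.toSubring hmem)
  let ι : CommRingCat.of R₂ ⟶ CommRingCat.of R := CommRingCat.ofHom
    (R₂.subtype.codRestrict R.toSubring fun x => by
      obtain ⟨a, -, ha⟩ := x.2
      show (x : L) ∈ R
      exact (show (a : L) = x from ha) ▸ a.2)
  have hι : ψ₂ ≫ ι = ψ := by
    ext a
    rfl
  have hι' : ι ≫ CommRingCat.ofHom R.subtype = CommRingCat.ofHom R₂.subtype := rfl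
  have hloc₂ : IsLocalHom ψ₂.hom := ⟨fun a ha => by
    obtain ⟨⟨c, d, hd, hdc⟩, hb⟩ := isUnit_iff_exists_inv.1 ha
    have h1 : ψ.hom a * d = 1 := Subtype.ext (by
      have := congrArg Subtype.val hb
      exact (congrArg (fun t => ((ψ.hom a : R) : L) * t) hdc).trans this)
    refine hloc.1 a (isUnit_iff_exists_inv.2 ⟨⟨residue R d, hd⟩, Subtype.ext ?_⟩)
    show residue R (ψ.hom a) * residue R d = 1
    rw [← map_mul, h1, map_one]⟩
  have hc : (Spec.map ψ₂ ≫ S.fromSpecStalk y) (closedPoint R₂) = y := by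
    have e : (Spec.map ψ₂) (closedPoint R₂) = closedPoint (S.presheaf.stalk y) :=
      comap_closedPoint ψ₂.hom
    rw [Scheme.Hom.comp_apply, e, Scheme.fromSpecStalk_closedPoint]
  have hιφ : Spec.map ι ≫ Spec.map ψ₂ ≫ S.fromSpecStalk y = φ := by
    rw [← Category.assoc, ← Spec.map_comp, hι, hψ]
  obtain ⟨l, h1, h2⟩ := H R₂ (Spec.map ψ₂ ≫ S.fromSpecStalk y) hc (by
    rw [gen, ← hι', Spec.map_comp, Category.assoc, hιφ, w])
  refine ⟨Spec.map ι ≫ l, ?_, by rw [Category.assoc, h2, hιφ]⟩
  rw [gen, ← Category.assoc, ← Spec.map_comp, hι', ← h1]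

variable [IsIntegral X]

/-- Properness over the local scheme from discrete valuation rings dominating the point. -/
theorem exists_proper_nhd [IsLocallyNoetherian S] (f : X ⟶ S) [IsSeparated f]
    [LocallyOfFiniteType f] [QuasiCompact f] (y : S) (hξ : f (genericPoint X) ⤳ y)
    (H : ∀ W : ValuationSubring (X.residueField (genericPoint X)), IsDiscreteValuationRing W →
      ∀ φ : Spec (CommRingCat.of W) ⟶ S, φ (closedPoint W) = y →
      gen W ≫ φ = X.fromSpecResidueField (genericPoint X) ≫ f →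
      ∃ l : Spec (CommRingCat.of W) ⟶ X,
        gen W ≫ l = X.fromSpecResidueField (genericPoint X) ∧ l ≫ f = φ) :
    ∃ U : S.Opens, y ∈ U ∧ IsProper (f ∣_ U) := by
  haveI : LocallyOfFiniteType (𝟙 X ≫ f) := by simpa using ‹LocallyOfFiniteType f›
  have H' := exists_lift_of_specializes f (X.fromSpecResidueField (genericPoint X)) y
    (fun R φ h w => by
      obtain ⟨l, hl1, hl2⟩ := exists_lift_of_dvr_at f (𝟙 X) (genericPoint X) y
        (fun W hW φ' hφ' w' => by
          rw [Category.id_comp] at w'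
          obtain ⟨l, hl1, hl2⟩ := H W hW φ' hφ' w'
          exact ⟨l, hl1.trans (Category.comp_id _).symm, hl2⟩) R φ h
        (w.trans (congrArg (X.fromSpecResidueField (genericPoint X) ≫ ·) (Category.id_comp f).symm))
      exact ⟨l, hl1.trans (Category.comp_id _), hl2⟩)
  refine Lim.LocalProper.exists_nhd f y ?_
  let k := S.fromSpecStalk y
  let f' := pullback.snd f k
  haveI : IsSeparated f' := MorphismProperty.pullback_snd _ _ ‹_›
  haveI : QuasiCompact f' := MorphismProperty.pullback_snd _ _ ‹_›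
  haveI : LocallyOfFiniteType f' := MorphismProperty.pullback_snd _ _ ‹_›
  haveI : IsPreimmersion (pullback.fst f k) := MorphismProperty.pullback_fst _ _ inferInstance
  have hu : ValuativeCriterion.Uniqueness f' := uniqueness_of_isSeparated f'
  suffices UniversallyClosed f' from { }
  refine universallyClosed_of_residueExistence f' (residueExistence_of_generizations
    (𝟙 (pullback f k)) f' (fun z => pullback.fst f k z = genericPoint X) ?_ hu ?_)
  · intro x
    obtain ⟨z, hz⟩ : genericPoint X ∈ Set.range (pullback.fst f k) := by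
      rw [Scheme.Pullback.range_fst, Set.mem_preimage, Scheme.range_fromSpecStalk]
      exact hξ
    refine ⟨z, hz, (pullback.fst f k).isEmbedding.isInducing.specializes_iff.1 ?_⟩
    show pullback.fst f k z ⤳ _
    rw [hz]
    exact genericPoint_specializes _
  · intro z hz R φ w
    obtain ⟨x, hx⟩ : ∃ x, pullback.fst f k z = x := ⟨_, rfl⟩
    have H'' : ∀ (R : ValuationSubring (X.residueField x)) (φ : Spec (CommRingCat.of R) ⟶ S),
        φ (closedPoint R) ⤳ y → gen R ≫ φ = X.fromSpecResidueField x ≫ f →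
        ∃ l : Spec (CommRingCat.of R) ⟶ X, gen R ≫ l = X.fromSpecResidueField x ∧ l ≫ f = φ := by
      obtain rfl : x = genericPoint X := hx.symm.trans hz
      exact H'
    subst hx
    rw [Category.id_comp] at w
    let g := (pullback.fst f k).residueFieldMap z
    have hg : Spec.map g ≫ X.fromSpecResidueField _ = (pullback (C := Scheme) f k).fromSpecResidueField z ≫
        pullback.fst f k := Scheme.Hom.SpecMap_residueFieldMap_fromSpecResidueField _ _
    let ρ := ValSquare.comapRestrict R g.hom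
    obtain ⟨φ', ⟨h1, h2⟩, -⟩ := ValSquare.existsUnique_factor_residueField f _ R
      ((pullback (C := Scheme) f k).fromSpecResidueField z ≫ pullback.fst f k) (φ ≫ k)
      (by rw [Category.assoc, pullback.condition, ← Category.assoc, ← Category.assoc]; exact congrArg (· ≫ k) w)
      _ g hg ρ (fun _ => rfl)
    have hy : φ' (closedPoint (R.comap g.hom)) ⤳ y := by
      haveI : IsLocalHom ρ := ⟨fun a ha => by
        obtain ⟨b, hb⟩ := isUnit_iff_exists_inv.1 ha
        have hb' : g.hom a.1 * (b : (pullback (C := Scheme) f k).residueField z) = 1 :=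
          congrArg Subtype.val hb
        have ha0 : a.1 ≠ 0 := fun h => by
          rw [h, map_zero, zero_mul] at hb'
          exact zero_ne_one hb'
        refine isUnit_iff_exists_inv.2 ⟨⟨a.1⁻¹, ?_⟩, Subtype.ext (mul_inv_cancel₀ ha0)⟩
        show g.hom a.1⁻¹ ∈ R
        rw [map_inv₀, inv_eq_of_mul_eq_one_right hb']
        exact b.2⟩
      rw [← ValSquare.map_closedPoint ρ]
      show (Spec.map (CommRingCat.ofHom ρ) ≫ φ') (closedPoint R) ⤳ y
      rw [h1, Scheme.Hom.comp_apply]
      have hr : k (φ (closedPoint R)) ∈ Set.range k := ⟨_, rfl⟩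
      rw [Scheme.range_fromSpecStalk] at hr
      exact hr
    obtain ⟨l, hl1, hl2⟩ := H'' _ φ' hy h2
    refine ⟨pullback.lift (Spec.map (CommRingCat.ofHom ρ) ≫ l) φ (by rw [Category.assoc, hl2, h1]), ?_,
      pullback.lift_snd _ _ _⟩
    rw [Category.comp_id]
    apply pullback.hom_ext
    · rw [Category.assoc, pullback.lift_fst, ← hg, ← hl1, gen, gen, ← Category.assoc,
        ← Category.assoc, ← Spec.map_comp, ← Spec.map_comp]
      rfl
    · rw [Category.assoc, pullback.lift_snd, w]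

end Groth.Agent.Lib.DvrCrit
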