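import Groth.Agent.Lib.DvrCrit.AtPoint

/-!
# Valuative criteria tested on discrete valuation rings
-/

set_option autoImplicit false
set_option backward.isDefEq.respectTransparency false
universe u
open CategoryTheory Limits AlgebraicGeometry IsLocalRing

namespace Groth.Agent.Lib.DvrCrit

variable {X S Z : Scheme.{u}}

/-- Properness over the local scheme from discrete valuation rings dominating the point. -/
theorem exists_proper_nhd_all [IsLocallyNoetherian S] (f : X ⟶ S) [IsSeparated f]
    [LocallyOfFiniteType f] [QuasiCompact f] (y : S)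
    (H : ∀ (x : X) (W : ValuationSubring (X.residueField x)), IsDiscreteValuationRing W →
      ∀ φ : Spec (CommRingCat.of W) ⟶ S, φ (closedPoint W) = y →
      gen W ≫ φ = X.fromSpecResidueField x ≫ f →
      ∃ l : Spec (CommRingCat.of W) ⟶ X,
        gen W ≫ l = X.fromSpecResidueField x ∧ l ≫ f = φ) :
    ∃ U : S.Opens, y ∈ U ∧ IsProper (f ∣_ U) := by
  haveI : LocallyOfFiniteType (𝟙 X ≫ f) := by simpa using ‹LocallyOfFiniteType f›
  have H' := fun x : X => exists_lift_of_specializes f (X.fromSpecResidueField x) y
    (fun R φ h w => by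
      obtain ⟨l, hl1, hl2⟩ := exists_lift_of_dvr_at f (𝟙 X) x y
        (fun W hW φ' hφ' w' => by
          rw [Category.id_comp] at w'
          obtain ⟨l, hl1, hl2⟩ := H x W hW φ' hφ' w'
          exact ⟨l, hl1.trans (Category.comp_id _).symm, hl2⟩) R φ h
        (w.trans (congrArg (X.fromSpecResidueField x ≫ ·) (Category.id_comp f).symm))
      exact ⟨l, hl1.trans (Category.comp_id _), hl2⟩)
  refine Lim.LocalProper.exists_nhd f y ?_
  let k := S.fromSpecStalk y
  let f' := pullback.snd f k
  haveI : IsSeparated f' := MorphismProperty.pullback_snd _ _ ‹_›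
  haveI : QuasiCompact f' := MorphismProperty.pullback_snd _ _ ‹_›
  haveI : LocallyOfFiniteType f' := MorphismProperty.pullback_snd _ _ ‹_›
  haveI : IsPreimmersion (pullback.fst f k) := MorphismProperty.pullback_fst _ _ inferInstance
  have hu : ValuativeCriterion.Uniqueness f' := uniqueness_of_isSeparated f'
  suffices UniversallyClosed f' from { }
  refine universallyClosed_of_residueExistence f' (residueExistence_of_generizations
    (𝟙 (pullback f k)) f' (fun _ => True) (fun z => ⟨z, trivial, specializes_rfl⟩) hu ?_)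
  · intro z _ R φ w
    obtain ⟨x, hx⟩ : ∃ x, pullback.fst f k z = x := ⟨_, rfl⟩
    have H'' : ∀ (R : ValuationSubring (X.residueField x)) (φ : Spec (CommRingCat.of R) ⟶ S),
        φ (closedPoint R) ⤳ y → gen R ≫ φ = X.fromSpecResidueField x ≫ f →
        ∃ l : Spec (CommRingCat.of R) ⟶ X, gen R ≫ l = X.fromSpecResidueField x ∧ l ≫ f = φ := by
      exact H' x
    subst hx
    rw [Category.id_comp] at w
    let g := (pullback.fst f k).residueFieldMap z
    have hg : Spec.map g ≫ X.fromSpecResidueField _ = (pullback (C := Scheme) f k).fromSpecResidueField z ≫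
        pullback.fst f k := Scheme.Hom.SpecMap_residueFieldMap_fromSpecResidueField _ _
    let ρ := ValSquare.comapRestrict R g.hom
    obtain ⟨φ', ⟨h1, h2⟩, -⟩ := ValSquare.existsUnique_factor_residueField f _ R
      ((pullback (C := Scheme) f k).fromSpecResidueField z ≫ pullback.fst f k) (φ ≫ k)
      (by rw [Category.assoc, pullback.condition, ← Category.assoc, ← Category.assoc]; exact congrArg (· ≫ k) w)
      _ g hg ρ (fun _ => rfl)
    have hy : φ' (closedPoint (R.comap g.hom)) ⤳ y := by
      haveI : IsLocalHom ρ := ⟨fun a ha => by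
        obtain ⟨b, hb⟩ := isUnit_iff_exists_inv.1 ha
        have hb' : g.hom a.1 * (b : (pullback (C := Scheme) f k).residueField z) = 1 :=
          congrArg Subtype.val hb
        have ha0 : a.1 ≠ 0 := fun h => by
          rw [h, map_zero, zero_mul] at hb'
          exact zero_ne_one hb'
        refine isUnit_iff_exists_inv.2 ⟨⟨a.1⁻¹, ?_⟩, Subtype.ext (mul_inv_cancel₀ ha0)⟩
        show g.hom a.1⁻¹ ∈ R
        rw [map_inv₀, inv_eq_of_mul_eq_one_right hb']
        exact b.2⟩
      rw [← ValSquare.map_closedPoint ρ]
      show (Spec.map (CommRingCat.ofHom ρ) ≫ φ') (closedPoint R) ⤳ y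
      rw [h1, Scheme.Hom.comp_apply]
      have hr : k (φ (closedPoint R)) ∈ Set.range k := ⟨_, rfl⟩
      rw [Scheme.range_fromSpecStalk] at hr
      exact hr
    obtain ⟨l, hl1, hl2⟩ := H'' _ φ' hy h2
    refine ⟨pullback.lift (Spec.map (CommRingCat.ofHom ρ) ≫ l) φ (by rw [Category.assoc, hl2, h1]), ?_,
      pullback.lift_snd _ _ _⟩
    rw [Category.comp_id]
    apply pullback.hom_ext
    · rw [Category.assoc, pullback.lift_fst, ← hg, ← hl1, gen, gen, ← Category.assoc,
        ← Category.assoc, ← Spec.map_comp, ← Spec.map_comp]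
      rfl
    · rw [Category.assoc, pullback.lift_snd, w]

end Groth.Agent.Lib.DvrCrit
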