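import Groth.Agent.Lib.DvrCrit.Abstract
import Mathlib.AlgebraicGeometry.FunctionField

/-!
# Valuation rings of the function field dominating points
-/

set_option autoImplicit false
set_option backward.isDefEq.respectTransparency false
universe u
open CategoryTheory Limits AlgebraicGeometry IsLocalRing

namespace Groth.Agent.Lib.DvrCrit

variable {X Y : Scheme.{u}} [IsIntegral X]

/-- The function field is the residue field of the generic point. -/
noncomputable def resEquiv : X.functionField ≃+* X.residueField (genericPoint X) :=
  RingEquiv.ofBijective (X.residue (genericPoint X)).hom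
    ⟨(X.residue (genericPoint X)).hom.injective (R := X.functionField), X.residue_surjective _⟩

theorem resEquiv_apply (a : X.functionField) :
    resEquiv a = (X.residue (genericPoint X)).hom a := rfl

/-- `R` dominates the local ring of `Y` at `y`. -/
def Dominates (f : X ⟶ Y) (R : ValuationSubring X.functionField) (y : Y)
    (hy : f.base (genericPoint X) ⤳ y) : Prop :=
  (∀ a : Y.presheaf.stalk y,
      (Y.presheaf.stalkSpecializes hy ≫ f.stalkMap (genericPoint X)).hom a ∈ R) ∧
    ∀ a ∈ IsLocalRing.maximalIdeal (Y.presheaf.stalk y),
      R.valuation ((Y.presheaf.stalkSpecializes hy ≫ f.stalkMap (genericPoint X)).hom a) < 1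

theorem valuation_comap_lt_one {K L : Type u} [Field K] [Field L] (W : ValuationSubring L)
    (e : K →+* L) (x : K) : (W.comap e).valuation x < 1 ↔ W.valuation (e x) < 1 := by
  rw [← ValuationSubring.mem_nonunits_iff, ← ValuationSubring.mem_nonunits_iff,
    ValuationSubring.mem_nonunits_iff_or, ValuationSubring.mem_nonunits_iff_or,
    ValuationSubring.mem_comap, map_inv₀, map_eq_zero_iff _ e.injective]

/-- The valuation subring of the function field attached to one of the residue field. -/
noncomputable def down (W : ValuationSubring (X.residueField (genericPoint X))) :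
    ValuationSubring X.functionField :=
  W.comap resEquiv.toRingHom

/-- The valuation subring of the residue field attached to one of the function field. -/
noncomputable def up (R : ValuationSubring X.functionField) :
    ValuationSubring (X.residueField (genericPoint X)) :=
  R.comap resEquiv.symm.toRingHom

theorem down_up (R : ValuationSubring X.functionField) : down (up R) = R := by
  ext x
  show resEquiv.symm (resEquiv x) ∈ R ↔ x ∈ R
  rw [RingEquiv.symm_apply_apply]

theorem down_isDVR (W : ValuationSubring (X.residueField (genericPoint X)))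
    [IsDiscreteValuationRing W] : IsDiscreteValuationRing (down W) := by
  let e : ↥W ≃+* ↥(down W) :=
    { toFun := fun x => ⟨resEquiv.symm (x : X.residueField (genericPoint X)), by
        show resEquiv (resEquiv.symm _) ∈ W
        rw [RingEquiv.apply_symm_apply]
        exact x.2⟩
      invFun := fun x => ⟨resEquiv (x : X.functionField), x.2⟩
      left_inv := fun x => Subtype.ext (resEquiv.apply_symm_apply _)
      right_inv := fun x => Subtype.ext (resEquiv.symm_apply_apply _)
      map_mul' := fun a b => Subtype.ext (map_mul resEquiv.symm _ _)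
      map_add' := fun a b => Subtype.ext (map_add resEquiv.symm _ _) }
  exact IsDiscreteValuationRing.RingEquivClass.isDiscreteValuationRing e

/-- A morphism from a valuation ring extending the generic point gives domination. -/
theorem dominates_of_morphism (f : X ⟶ Y) (W : ValuationSubring (X.residueField (genericPoint X)))
    (φ : Spec (CommRingCat.of W) ⟶ Y)
    (w : gen W ≫ φ = X.fromSpecResidueField (genericPoint X) ≫ f)
    (y : Y) (hφ : φ (closedPoint W) = y) (hy : f.base (genericPoint X) ⤳ y) :
    Dominates f (down W) y hy := by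
  subst hφ
  let ψ := Scheme.stalkClosedPointTo φ
  have h : ψ ≫ CommRingCat.ofHom W.subtype =
      Y.presheaf.stalkSpecializes hy ≫ f.stalkMap (genericPoint X) ≫ X.residue (genericPoint X) := by
    apply Spec.map_injective
    rw [← cancel_mono (Y.fromSpecStalk _), Spec.map_comp, Category.assoc,
      Scheme.Spec_stalkClosedPointTo_fromSpecStalk]
    simp only [Spec.map_comp, Category.assoc, Scheme.SpecMap_stalkSpecializes_fromSpecStalk,
      Scheme.SpecMap_stalkMap_fromSpecStalk]
    rw [Scheme.fromSpecResidueField, Category.assoc] at w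
    exact w
  refine ⟨fun a => ?_, fun a ha => ?_⟩
  · show (X.residue (genericPoint X)).hom _ ∈ W
    exact (congr(($h).hom a)).symm ▸ (ψ.hom a).2
  · refine (valuation_comap_lt_one W _ _).2 ?_
    show W.valuation ((X.residue (genericPoint X)).hom _) < 1
    have h1 : ψ.hom a ∈ maximalIdeal W := fun hu => ha ((isUnit_map_iff ψ.hom a).1 hu)
    exact (congr(($h).hom a)).symm ▸ (ValuationSubring.valuation_lt_one_iff W _).1 h1

/-- Domination gives a morphism from the valuation ring. -/
theorem exists_morphism (f : X ⟶ Y) (W : ValuationSubring (X.residueField (genericPoint X)))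
    (y : Y) (hy : f.base (genericPoint X) ⤳ y) (h : Dominates f (down W) y hy) :
    ∃ φ : Spec (CommRingCat.of W) ⟶ Y, φ (closedPoint W) = y ∧
      gen W ≫ φ = X.fromSpecResidueField (genericPoint X) ≫ f := by
  let ρ : Y.presheaf.stalk y ⟶ CommRingCat.of W := CommRingCat.ofHom
    ((Y.presheaf.stalkSpecializes hy ≫ f.stalkMap (genericPoint X) ≫
      X.residue (genericPoint X)).hom.codRestrict W.toSubring fun a => h.1 a)
  have hloc : IsLocalHom ρ.hom := ⟨fun a ha => by
    by_contra hn
    have h1 := (valuation_comap_lt_one W _ _).1 (h.2 a hn)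
    exact (ValuationSubring.valuation_lt_one_iff W (ρ.hom a)).2 h1 ha⟩
  refine ⟨Spec.map ρ ≫ Y.fromSpecStalk y, ?_, ?_⟩
  · have e : (Spec.map ρ) (closedPoint W) = closedPoint (Y.presheaf.stalk y) :=
      comap_closedPoint ρ.hom
    rw [Scheme.Hom.comp_apply, e, Scheme.fromSpecStalk_closedPoint]
  · rw [← Category.assoc, ← Spec.map_comp]
    show Spec.map (Y.presheaf.stalkSpecializes hy ≫ f.stalkMap (genericPoint X) ≫
      X.residue (genericPoint X)) ≫ _ = _
    simp only [Spec.map_comp, Category.assoc, Scheme.SpecMap_stalkSpecializes_fromSpecStalk,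
      Scheme.SpecMap_stalkMap_fromSpecStalk]
    rw [Scheme.fromSpecResidueField, Category.assoc]

theorem dominates_id_iff (R : ValuationSubring X.functionField) (x : X)
    (hx : (𝟙 X : X ⟶ X).base (genericPoint X) ⤳ x) :
    Dominates (𝟙 X) R x hx ↔
      (∀ a : X.presheaf.stalk x, algebraMap (X.presheaf.stalk x) X.functionField a ∈ R) ∧
        ∀ a ∈ IsLocalRing.maximalIdeal (X.presheaf.stalk x),
          R.valuation (algebraMap (X.presheaf.stalk x) X.functionField a) < 1 := by
  have e : ∀ a, (X.presheaf.stalkSpecializes hx ≫ (𝟙 X : X ⟶ X).stalkMap (genericPoint X)).hom a =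
      algebraMap (X.presheaf.stalk x) X.functionField a := by
    intro a
    rw [Scheme.Hom.stalkMap_id]
    rfl
  simp only [Dominates, e]

variable [Y.IsSeparated]

/-- A point dominated in `X` gives a lift. -/
theorem exists_lift_of_dominates (f : X ⟶ Y) (W : ValuationSubring (X.residueField (genericPoint X)))
    (φ : Spec (CommRingCat.of W) ⟶ Y)
    (w : gen W ≫ φ = X.fromSpecResidueField (genericPoint X) ≫ f) (x : X)
    (h1 : ∀ a : X.presheaf.stalk x, algebraMap (X.presheaf.stalk x) X.functionField a ∈ down W)
    (h2 : ∀ a ∈ IsLocalRing.maximalIdeal (X.presheaf.stalk x),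
      (down W).valuation (algebraMap (X.presheaf.stalk x) X.functionField a) < 1) :
    ∃ l : Spec (CommRingCat.of W) ⟶ X,
      gen W ≫ l = X.fromSpecResidueField (genericPoint X) ∧ l ≫ f = φ := by
  have hx : (𝟙 X : X ⟶ X).base (genericPoint X) ⤳ x := genericPoint_specializes x
  obtain ⟨l, -, hl⟩ := exists_morphism (𝟙 X) W x hx ((dominates_id_iff _ x hx).2 ⟨h1, h2⟩)
  rw [Category.comp_id] at hl
  refine ⟨l, hl, ?_⟩
  refine uniqueness_apply (K := X.residueField (genericPoint X))
    (uniqueness_of_isSeparated (terminal.from Y)) _ _ (terminalIsTerminal.hom_ext _ _) ?_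
  show gen W ≫ l ≫ f = gen W ≫ φ
  rw [w, ← Category.assoc, hl]

end Groth.Agent.Lib.DvrCrit
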