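import Mathlib.RingTheory.Spectrum.Prime.ConstructibleSet
import Mathlib.RingTheory.Spectrum.Prime.Noetherian
import Mathlib.RingTheory.Ideal.KrullsHeightTheorem
import Mathlib.RingTheory.Ideal.MinimalPrime.Noetherian

/-!
# Constructible sets in Noetherian spectra: isolated points and one-dimensional specializations
-/

set_option autoImplicit false
set_option backward.isDefEq.respectTransparency false
universe u
open PrimeSpectrum Topology

namespace Groth.Agent.Lib.DvrCrit

variable {B : Type u} [CommRing B] [IsNoetherianRing B]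

omit [IsNoetherianRing B] in
/-- A constructible set contains an open piece of the closure of each of its points. -/
theorem exists_basic_subset {S : Set (PrimeSpectrum B)} (hS : IsConstructible S)
    {q : PrimeSpectrum B} (hq : q ∈ S) :
    ∃ f ∉ q.asIdeal, ∀ r : PrimeSpectrum B, q.asIdeal ≤ r.asIdeal → f ∉ r.asIdeal → r ∈ S := by
  obtain ⟨D, rfl⟩ := exists_constructibleSetData_iff.2 hS
  simp only [ConstructibleSetData.toSet, Set.mem_iUnion] at hq
  obtain ⟨C, hC, hq1, hq2⟩ := hq
  have hf : C.f ∉ q.asIdeal := fun h =>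
    hq2 ((mem_zeroLocus _ _).2 (Set.singleton_subset_iff.2 h))
  refine ⟨C.f, hf, fun r hr hfr => ?_⟩
  simp only [ConstructibleSetData.toSet, Set.mem_iUnion]
  exact ⟨C, hC, (mem_zeroLocus _ _).2 (((mem_zeroLocus _ _).1 hq1).trans hr),
    fun h => hfr (Set.singleton_subset_iff.1 ((mem_zeroLocus _ _).1 h))⟩

/-- A constructible set with a point below `p` has a point `q` below `p` near which it meets the
primes below `p` only in `q`. -/
theorem exists_isolated {S : Set (PrimeSpectrum B)} (hS : IsConstructible S) (P : Set (PrimeSpectrum B))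
    (hP : (S ∩ P).Nonempty) :
    ∃ q ∈ S ∩ P, ∃ f ∉ q.asIdeal, ∀ r ∈ P, q.asIdeal ≤ r.asIdeal → f ∉ r.asIdeal → r = q := by
  obtain ⟨q0, hq0⟩ := hP
  obtain ⟨I, ⟨q, hq, rfl⟩, hmax⟩ := (wellFounded_gt (α := Ideal B)).has_min
    {I | ∃ q ∈ S ∩ P, q.asIdeal = I} ⟨_, q0, hq0, rfl⟩
  obtain ⟨f, hf, hsub⟩ := exists_basic_subset hS hq.1
  refine ⟨q, hq, f, hf, fun r hrP hr hfr => ?_⟩
  by_contra hne
  exact hmax r.asIdeal ⟨r, ⟨hsub r hr hfr, hrP⟩, rfl⟩
    (lt_of_le_of_ne hr fun e => hne (PrimeSpectrum.ext e.symm))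

/-- In a Noetherian domain, if every nonzero prime inside `p` contains a fixed nonzero `f`, there is
no prime strictly between `0` and `p`. -/
theorem eq_or_eq_of_forall_mem [IsDomain B] (f : B) (hf : f ≠ 0) (p : Ideal B) [p.IsPrime]
    (h : ∀ r : Ideal B, r.IsPrime → r ≤ p → r ≠ ⊥ → f ∈ r) (r : Ideal B) [r.IsPrime] (hr : r ≤ p) :
    r = ⊥ ∨ r = p := by
  classical
  by_contra hc
  push Not at hc
  obtain ⟨hr0, hrp⟩ := hc
  have hrlt : r < p := lt_of_le_of_ne hr hrp
  -- minimal primes over nonzero principal ideals have height one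
  have ht1 : ∀ (a : B), a ≠ 0 → ∀ t ∈ (Ideal.span {a}).minimalPrimes, ∀ t' : Ideal B, t'.IsPrime →
      t' < t → t' = ⊥ := by
    intro a ha t ht t' ht' hlt
    haveI := ht.1.1
    by_contra h0
    haveI : (⊥ : Ideal B).IsPrime := Ideal.isPrime_bot
    have h1 := Ideal.height_strict_mono_of_isPrime_of_isPrime (bot_lt_iff_ne_bot.2 h0)
    have h2 := Ideal.height_strict_mono_of_isPrime_of_isPrime hlt
    have h3 := Ideal.height_le_one_of_isPrincipal_of_mem_minimalPrimes (Ideal.span {a}) t ht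
    have h4 : t'.height < 1 := h2.trans_le h3
    rw [ENat.lt_one_iff_eq_zero] at h4
    rw [h4] at h1
    exact not_lt_bot h1
  have hfin : (Ideal.span {f}).minimalPrimes.Finite := Ideal.finite_minimalPrimes_of_isNoetherianRing B _
  have hcov : (p : Set B) ⊆ ⋃ t ∈ (↑hfin.toFinset : Set (Ideal B)), (t : Set B) := by
    intro a ha
    have hne : (Ideal.span {f}).minimalPrimes.Nonempty := by
      obtain ⟨t, ht, -⟩ := Ideal.exists_minimalPrimes_le
        (show Ideal.span {f} ≤ p from (Ideal.span_singleton_le_iff_mem _).2 (h p inferInstance le_rfl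
          fun e => hr0 (le_bot_iff.1 (e ▸ hr))))
      exact ⟨t, ht⟩
    by_cases ha0 : a = 0
    · obtain ⟨t, ht⟩ := hne
      exact Set.mem_biUnion (hfin.mem_toFinset.2 ht) (ha0 ▸ t.zero_mem)
    obtain ⟨t, ht, htp⟩ := Ideal.exists_minimalPrimes_le
      (show Ideal.span {a} ≤ p from (Ideal.span_singleton_le_iff_mem _).2 ha)
    haveI := ht.1.1
    have hat : a ∈ t := (Ideal.span_singleton_le_iff_mem _).1 ht.1.2
    have ht0 : t ≠ ⊥ := fun e => ha0 (by rw [e] at hat; exact hat)
    have hft : f ∈ t := h t inferInstance htp ht0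
    refine Set.mem_biUnion (hfin.mem_toFinset.2 ⟨⟨inferInstance, (Ideal.span_singleton_le_iff_mem _).2 hft⟩,
      fun t' ht' hle => ?_⟩) hat
    rcases eq_or_lt_of_le hle with e | hlt
    · exact e.ge
    · exfalso
      have h0 := ht1 a ha0 t ht t' ht'.1 hlt
      exact hf (by simpa [h0] using (Ideal.span_singleton_le_iff_mem _).1 ht'.2)
  obtain ⟨t, ht, hpt⟩ := (Ideal.subset_union_prime (f := fun t : Ideal B => t) ⊥ ⊥ fun t ht _ _ =>
    (hfin.mem_toFinset.1 ht).1.1).1 hcov
  exact hr0 (ht1 f hf t (hfin.mem_toFinset.1 ht) r inferInstance (hrlt.trans_le hpt))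

end Groth.Agent.Lib.DvrCrit
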