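import Groth.Agent.Lib.DvrCrit.Curve
import Groth.Agent.Lib.DvrCrit.Abstract
import Groth.Agent.Lib.Lim.AffineSpaceClosed
import Groth.Agent.H18.NagataLocal
import Mathlib.AlgebraicGeometry.Morphisms.ClosedImmersion

/-!
# Valuative criteria on curves over a Nagata base
-/

set_option autoImplicit false
set_option linter.unusedVariables false
set_option backward.isDefEq.respectTransparency false
universe u
open CategoryTheory Limits AlgebraicGeometry

namespace Groth.Agent.Lib.DvrCrit

/-- `IsNagata` passes to algebras of finite type (stated as a hypothesis). -/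
def NagataFT : Prop :=
  ∀ (R : Type u) [CommRing R], CAlg.IsNagata R → ∀ (A : Type u) [CommRing A] [Algebra R A],
    Algebra.FiniteType R A → CAlg.IsNagata A

theorem isNagata_affine (hFT : NagataFT.{u}) {S T : Scheme.{u}}
    (hS : ∀ W : S.affineOpens, CAlg.IsNagata Γ(S, W)) (q : T ⟶ S) [LocallyOfFiniteType q]
    (W : T.affineOpens) : CAlg.IsNagata Γ(T, W) := by
  classical
  have hloc : ∀ x : (W : T.Opens), ∃ (r : Γ(T, W)), x.1 ∈ T.basicOpen r ∧
      CAlg.IsNagata (Localization.Away r) := by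
    intro x
    obtain ⟨U, hU, hxU, -⟩ := exists_isAffineOpen_mem_and_subset (x := q x.1) (U := (⊤ : S.Opens)) trivial
    obtain ⟨r, hrU, hxr⟩ := W.2.exists_basicOpen_le (V := q ⁻¹ᵁ U ⊓ W.1) ⟨x.1, hxU, x.2⟩ x.2
    refine ⟨r, hxr, ?_⟩
    have hft := q.finiteType_appLE hU (W.2.basicOpen r) (hrU.trans inf_le_left)
    letI := (q.appLE U (T.basicOpen r) (hrU.trans inf_le_left)).hom.toAlgebra
    haveI := W.2.isLocalization_basicOpen r
    let e := (IsLocalization.algEquiv (Submonoid.powers r) Γ(T, T.basicOpen r) (Localization.Away r)).toRingEquiv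
    letI : Algebra Γ(S, U) (Localization.Away r) :=
      (e.toRingHom.comp (q.appLE U (T.basicOpen r) (hrU.trans inf_le_left)).hom).toAlgebra
    refine hFT _ (hS ⟨U, hU⟩) (Localization.Away r) ?_
    exact RingHom.FiniteType.comp_surjective (f := (q.appLE U (T.basicOpen r) (hrU.trans inf_le_left)).hom)
      (g := e.toRingHom) hft e.surjective
  choose r hr hN using hloc
  obtain ⟨t, ht⟩ := W.2.isCompact.elim_finite_subcover (fun x : (W : T.Opens) => (T.basicOpen (r x) : Set T))
    (fun x => (T.basicOpen (r x)).2) fun y hy => Set.mem_iUnion.2 ⟨⟨y, hy⟩, hr ⟨y, hy⟩⟩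
  refine H18.NagataLocal.isNagata_of_cover (fun x : t => r x.1) ?_ fun x => hN x.1
  rw [← W.2.iSup_basicOpen_eq_self_iff]
  refine le_antisymm (iSup_le fun g => T.basicOpen_le _) fun y hy => ?_
  obtain ⟨x, hxt, hyx⟩ := Set.mem_iUnion₂.1 (ht hy)
  exact TopologicalSpace.Opens.mem_iSup.2 ⟨⟨r x, ⟨⟨x, hxt⟩, rfl⟩⟩, hyx⟩

variable {S X Y : Scheme.{u}}

/-- Universal closedness from curves. -/
theorem universallyClosed_of_curves [IsLocallyNoetherian S] (hFT : NagataFT.{u})
    (hS : ∀ W : S.affineOpens, CAlg.IsNagata Γ(S, W)) (p : X ⟶ S) (q : Y ⟶ S)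
    [LocallyOfFiniteType p] [LocallyOfFiniteType q] (f : X ⟶ Y) (hf : f ≫ q = p) [QuasiCompact f]
    (H : ∀ (C : Scheme.{u}) (r : C ⟶ S) [IsIntegral C] [LocallyOfFiniteType r] [QuasiCompact r],
        (∀ x : C, IsIntegrallyClosed (C.presheaf.stalk x)) →
        ∀ (c : C), IsClosed ({c} : Set C) → ringKrullDim (C.presheaf.stalk c) = 1 →
        ∀ (U : C.Opens), (U : Set C) = {c}ᶜ →
        ∀ (u : (U : Scheme.{u}) ⟶ X) (g : C ⟶ Y), g ≫ q = r → u ≫ f = U.ι ≫ g →
        ∀ (k : Spec (CommRingCat.of (FractionRing (C.presheaf.stalk c))) ⟶ (U : Scheme.{u})),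
          k ≫ U.ι = Spec.map (CommRingCat.ofHom (algebraMap (C.presheaf.stalk c)
            (FractionRing (C.presheaf.stalk c)))) ≫ C.fromSpecStalk c →
        ∃ l : Spec (C.presheaf.stalk c) ⟶ X, l ≫ f = C.fromSpecStalk c ≫ g ∧
          Spec.map (CommRingCat.ofHom (algebraMap (C.presheaf.stalk c) (FractionRing (C.presheaf.stalk c)))) ≫ l =
            k ≫ u) :
    UniversallyClosed f := by
  subst hf
  haveI : LocallyOfFiniteType f := locallyOfFiniteType_of_comp f q
  refine Lim.AffineSpaceClosed.universallyClosed_of_affineSpace f fun n => ?_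
  let A := 𝔸(ULift.{u} (Fin n); Y)
  let P := pullback f (A ↘ Y)
  haveI : LocallyOfFiniteType (A ↘ Y) := inferInstance
  let qT : A ⟶ S := (A ↘ Y) ≫ q
  haveI : LocallyOfFiniteType qT := inferInstance
  haveI : IsLocallyNoetherian A := LocallyOfFiniteType.isLocallyNoetherian qT
  let f' : P ⟶ A := pullback.snd f (A ↘ Y)
  haveI : LocallyOfFiniteType f' := MorphismProperty.pullback_snd _ _ ‹_›
  haveI : QuasiCompact f' := MorphismProperty.pullback_snd _ _ ‹_›
  intro Z hZ
  let CZ : TopologicalSpace.Closeds P := ⟨Z, hZ⟩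
  let i := (Scheme.IdealSheafData.vanishingIdeal CZ).subschemeι
  have hi : Set.range i = Z := by
    rw [Scheme.IdealSheafData.range_subschemeι, Scheme.IdealSheafData.coe_support_vanishingIdeal]
    rfl
  show IsClosed (f' '' Z)
  have hrange : Set.range (i ≫ f') = f' '' Z := by
    rw [← hi, ← Set.range_comp]
    rfl
  rw [← hrange]
  by_contra hnc
  obtain ⟨C, r, hint, hlft, hqc, hn, c, hc, hd, U, hU, u, g, hgr, hug, k, hk, hmem⟩ :=
    exists_curve (isNagata_affine hFT hS qT) qT (i ≫ f') hnc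
  obtain ⟨l, hl1, hl2⟩ := H C r hn c hc hd U hU (u ≫ i ≫ pullback.fst f (A ↘ Y)) (g ≫ (A ↘ Y))
    (by rw [Category.assoc]; exact hgr)
    (by
      simp only [Category.assoc, pullback.condition]
      rw [← Category.assoc U.ι, ← hug]
      simp only [f', Category.assoc]) k hk
  let L : Spec (C.presheaf.stalk c) ⟶ P :=
    pullback.lift l (C.fromSpecStalk c ≫ g) (by rw [hl1, Category.assoc])
  have hL : Spec.map (CommRingCat.ofHom (algebraMap (C.presheaf.stalk c)
      (FractionRing (C.presheaf.stalk c)))) ≫ L = k ≫ u ≫ i := by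
    apply pullback.hom_ext
    · rw [Category.assoc, pullback.lift_fst, hl2]
      simp only [Category.assoc]
    · rw [Category.assoc, pullback.lift_snd, ← Category.assoc, ← hk, Category.assoc, ← hug]
      simp only [f', Category.assoc]
  let pc : Spec (C.presheaf.stalk c) := IsLocalRing.closedPoint (C.presheaf.stalk c)
  let pK : Spec (CommRingCat.of (FractionRing (C.presheaf.stalk c))) :=
    IsLocalRing.closedPoint (FractionRing (C.presheaf.stalk c))
  have hsp : (k ≫ u ≫ i) pK ⤳ L pc := by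
    rw [← hL]
    exact (IsLocalRing.specializes_closedPoint (R := C.presheaf.stalk c) _).map L.continuous
  have hLZ : L pc ∈ Z := hsp.mem_closed hZ (hi.le ⟨(k ≫ u) pK, rfl⟩)
  refine hmem (hrange.ge ⟨_, hLZ, ?_⟩)
  show (L ≫ f') pc = g c
  rw [pullback.lift_snd, Scheme.Hom.comp_apply]
  exact congrArg g Scheme.fromSpecStalk_closedPoint

/-- Separatedness from curves. -/
theorem isSeparated_of_curves [IsLocallyNoetherian S] (hFT : NagataFT.{u})
    (hS : ∀ W : S.affineOpens, CAlg.IsNagata Γ(S, W)) (p : X ⟶ S) (q : Y ⟶ S)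
    [LocallyOfFiniteType p] [LocallyOfFiniteType q] (f : X ⟶ Y) (hf : f ≫ q = p)
    (H : ∀ (C : Scheme.{u}) (r : C ⟶ S) [IsIntegral C] [LocallyOfFiniteType r] [QuasiCompact r],
        (∀ x : C, IsIntegrallyClosed (C.presheaf.stalk x)) →
        ∀ (c : C), IsClosed ({c} : Set C) → ringKrullDim (C.presheaf.stalk c) = 1 →
        ∀ (U : C.Opens), (U : Set C) = {c}ᶜ →
        ∀ (u : (U : Scheme.{u}) ⟶ X) (g : C ⟶ Y), g ≫ q = r → u ≫ f = U.ι ≫ g →
        ∀ (k : Spec (CommRingCat.of (FractionRing (C.presheaf.stalk c))) ⟶ (U : Scheme.{u})),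
          k ≫ U.ι = Spec.map (CommRingCat.ofHom (algebraMap (C.presheaf.stalk c)
            (FractionRing (C.presheaf.stalk c)))) ≫ C.fromSpecStalk c →
        ∀ l l' : Spec (C.presheaf.stalk c) ⟶ X,
          l ≫ f = C.fromSpecStalk c ≫ g →
          Spec.map (CommRingCat.ofHom (algebraMap (C.presheaf.stalk c) (FractionRing (C.presheaf.stalk c)))) ≫ l =
            k ≫ u →
          l' ≫ f = C.fromSpecStalk c ≫ g →
          Spec.map (CommRingCat.ofHom (algebraMap (C.presheaf.stalk c) (FractionRing (C.presheaf.stalk c)))) ≫ l' =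
            k ≫ u → l = l') :
    IsSeparated f := by
  subst hf
  haveI : LocallyOfFiniteType f := locallyOfFiniteType_of_comp f q
  haveI : IsLocallyNoetherian Y := LocallyOfFiniteType.isLocallyNoetherian q
  haveI : IsLocallyNoetherian X := LocallyOfFiniteType.isLocallyNoetherian f
  let qT : pullback f f ⟶ S := pullback.fst f f ≫ f ≫ q
  haveI : LocallyOfFiniteType qT := inferInstance
  haveI : IsLocallyNoetherian (pullback f f) := LocallyOfFiniteType.isLocallyNoetherian qT
  refine ⟨.of_isPreimmersion _ ?_⟩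
  by_contra hnc
  obtain ⟨C, r, hint, hlft, hqc, hn, c, hc, hd, U, hU, u, g, hgr, hug, k, hk, hmem⟩ :=
    exists_curve (isNagata_affine hFT hS qT) qT (pullback.diagonal f) hnc
  have e1 : U.ι ≫ g ≫ pullback.fst f f = u := by
    rw [← Category.assoc, ← hug, Category.assoc, pullback.diagonal_fst, Category.comp_id]
  have e2 : U.ι ≫ g ≫ pullback.snd f f = u := by
    rw [← Category.assoc, ← hug, Category.assoc, pullback.diagonal_snd, Category.comp_id]
  have e := H C r hn c hc hd U hU u (g ≫ pullback.fst f f ≫ f) (by simpa [qT] using hgr)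
    (by rw [← e1]; simp) k hk (C.fromSpecStalk c ≫ g ≫ pullback.fst f f)
    (C.fromSpecStalk c ≫ g ≫ pullback.snd f f) (by simp)
    (by rw [← Category.assoc, ← hk, Category.assoc, e1]) (by simp [pullback.condition])
    (by rw [← Category.assoc, ← hk, Category.assoc, e2])
  have hd : C.fromSpecStalk c ≫ g =
      (C.fromSpecStalk c ≫ g ≫ pullback.fst f f) ≫ pullback.diagonal f :=
    pullback.hom_ext (by simp) (by simp [← e])
  refine hmem ⟨(C.fromSpecStalk c ≫ g ≫ pullback.fst f f) (IsLocalRing.closedPoint _), ?_⟩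
  rw [← Scheme.Hom.comp_apply, ← hd, Scheme.Hom.comp_apply]
  exact congrArg g Scheme.fromSpecStalk_closedPoint

theorem existence_curve {C : Scheme.{u}} [IsIntegral C] (r : C ⟶ S) [IsLocallyNoetherian S]
    [LocallyOfFiniteType r] {c : C} (hn : IsIntegrallyClosed (C.presheaf.stalk c))
    (hd : ringKrullDim (C.presheaf.stalk c) = 1) : ValuationRing (C.presheaf.stalk c) := by
  haveI : IsLocallyNoetherian C := LocallyOfFiniteType.isLocallyNoetherian r
  haveI := curve_stalk_dvr c hn hd
  infer_instance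

end Groth.Agent.Lib.DvrCrit
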