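import Groth.Agent.Lib.DvrCrit.CurveAlg
import Groth.Agent.Lib.Excellent.Nagata
import Mathlib.RingTheory.LocalRing.ResidueField.Ideal
import Mathlib.RingTheory.IntegralClosure.IntegrallyClosed
import Mathlib.RingTheory.Ideal.GoingUp
import Mathlib.RingTheory.Localization.Away.Basic
import Mathlib.RingTheory.FiniteType
import Mathlib.RingTheory.FiniteStability
import Mathlib.RingTheory.Localization.InvSubmonoid
import Mathlib.RingTheory.Jacobson.Ring

/-!
# A normal curve through a point of the closure, ring version
-/

set_option autoImplicit false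
set_option linter.unusedVariables false
set_option backward.isDefEq.respectTransparency false
universe u

namespace Groth.Agent.Lib.DvrCrit

/-- The data of a normal affine curve mapping to `Spec B`, with its punctured part lifted to `Spec A`. -/
structure CurveData (B : Type u) [CommRing B] (A : Type u) [CommRing A] [Algebra B A]
    (p : Ideal B) (q : Ideal B) : Type (u + 1) where
  C : Type u
  [commRing : CommRing C]
  [isDomain : IsDomain C]
  [isIntegrallyClosed : IsIntegrallyClosed C]
  [algebra : Algebra B C]
  [finiteType : Algebra.FiniteType B C]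
  c : PrimeSpectrum C
  comap_c : c.asIdeal.comap (algebraMap B C) = p
  ker_eq : RingHom.ker (algebraMap B C) = q
  isMaximal : c.asIdeal.IsMaximal
  height : c.asIdeal.height = 1
  u : C
  u_spec : ∀ r : PrimeSpectrum C, r ≠ c → u ∉ r.asIdeal
  θ : A →ₐ[B] Localization.Away u

variable {B : Type u} [CommRing B] [IsNoetherianRing B]

/-- A point of the fibre with values in a finite extension of the residue field. -/
theorem exists_fibre_point {B : Type u} [CommRing B] (A : Type u) [CommRing A] [Algebra B A]
    [Algebra.FiniteType B A] (z : Ideal A) [z.IsPrime] (q : Ideal B) [q.IsPrime]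
    (hz : z.comap (algebraMap B A) = q) :
    ∃ (L : Type u) (_ : Field L) (_ : Algebra B L) (_ : Algebra q.ResidueField L)
      (_ : IsScalarTower B q.ResidueField L),
      FiniteDimensional q.ResidueField L ∧ Nonempty (A →ₐ[B] L) := by
  let ψ : q.ResidueField →ₐ[B] z.ResidueField :=
    { Ideal.ResidueField.map q z (algebraMap B A) hz.symm with
      commutes' := fun b => by
        rw [IsScalarTower.algebraMap_apply B A z.ResidueField b]
        exact Ideal.ResidueField.map_algebraMap q z (algebraMap B A) hz.symm b }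
  haveI : Nontrivial (TensorProduct B q.ResidueField A) := RingHom.domain_nontrivial
    (Algebra.TensorProduct.lift (R := B) (S := B) ψ
      (IsScalarTower.toAlgHom B A z.ResidueField) fun _ _ => mul_comm _ _).toRingHom
  obtain ⟨m, hm⟩ := Ideal.exists_maximal (TensorProduct B q.ResidueField A)
  letI := Ideal.Quotient.field m
  haveI : Algebra.FiniteType q.ResidueField (TensorProduct B q.ResidueField A ⧸ m) :=
    Algebra.FiniteType.of_surjective (Ideal.Quotient.mkₐ q.ResidueField m) Ideal.Quotient.mk_surjective
  exact ⟨_, inferInstance, inferInstance, inferInstance, inferInstance,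
    finite_of_finite_type_of_isJacobsonRing _ _,
    ⟨(Ideal.Quotient.mkₐ B m).comp Algebra.TensorProduct.includeRight⟩⟩

set_option maxHeartbeats 1600000 in
/-- If `p` is isolated above `q` then there is a normal curve with a point over `p`, whose punctured
part lifts to any algebra of finite type with a prime over `q`. -/
theorem nonempty_curveData (hB : CAlg.IsNagata B) (A : Type u) [CommRing A] [Algebra B A]
    [Algebra.FiniteType B A] (z : Ideal A) [z.IsPrime] (p q : Ideal B) [p.IsPrime] [q.IsPrime]
    (hz : z.comap (algebraMap B A) = q) (hqp : q < p) (f₁ : B) (hf₁ : f₁ ∉ p)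
    (h₁ : ∀ r : Ideal B, r.IsPrime → p ≤ r → f₁ ∉ r → r = p) (f₂ : B) (hf₂ : f₂ ∉ q)
    (h₂ : ∀ r : Ideal B, r.IsPrime → r ≤ p → q ≤ r → f₂ ∉ r → r = q) :
    Nonempty (CurveData B A p q) := by
  classical
  let K := q.ResidueField
  obtain ⟨L, _, _, _, _, hfd, ⟨j⟩⟩ := exists_fibre_point A z q hz
  haveI : FiniteDimensional K L := hfd
  -- the normalization of the image of `B`
  let B₀ := B ⧸ q
  have hN2 : CAlg.IsN2 B₀ := hB.2 q
  letI : Algebra B₀ L := ((algebraMap K L).comp (algebraMap B₀ K)).toAlgebra
  haveI : IsScalarTower B₀ K L := IsScalarTower.of_algebraMap_eq fun _ => rfl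
  haveI : IsScalarTower B B₀ L := IsScalarTower.of_algebraMap_eq fun b => by
    show algebraMap B L b = algebraMap K L (algebraMap B₀ K (algebraMap B B₀ b))
    rw [← IsScalarTower.algebraMap_apply B B₀ K, ← IsScalarTower.algebraMap_apply B K L]
  let N := integralClosure B₀ L
  haveI : Module.Finite B₀ N := Excellent.Nagata.finite_integralClosure_of_isN2 hN2 K L
  haveI : IsFractionRing N L := integralClosure.isFractionRing_of_finite_extension K L
  haveI : IsIntegrallyClosed N := integralClosure.isIntegrallyClosedOfFiniteExtension K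
  have hinj : Function.Injective (algebraMap B₀ N) := by
    intro a b hab
    have h' : algebraMap B₀ L a = algebraMap B₀ L b := congrArg Subtype.val hab
    exact IsFractionRing.injective B₀ K ((algebraMap K L).injective h')
  haveI : Algebra.FiniteType B N := Algebra.FiniteType.trans (S := B₀) inferInstance inferInstance
  have hkerN : RingHom.ker (algebraMap B N) = q := by
    rw [IsScalarTower.algebraMap_eq B B₀ N, RingHom.ker_comp_of_injective _ hinj]
    exact Ideal.mk_ker
  let p₀ : Ideal B₀ := p.map (Ideal.Quotient.mk q)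
  haveI hp₀ : p₀.IsPrime := Ideal.map_isPrime_of_surjective Ideal.Quotient.mk_surjective
    (Ideal.mk_ker.trans_le hqp.le)
  have hp₀c : p₀.comap (Ideal.Quotient.mk q) = p :=
    (Ideal.comap_map_of_surjective _ Ideal.Quotient.mk_surjective p).trans (by
      rw [← RingHom.ker_eq_comap_bot, Ideal.mk_ker, sup_eq_left]; exact hqp.le)
  obtain ⟨c, -, hc, hcp⟩ := Ideal.exists_ideal_over_prime_of_isIntegral (S := N) p₀ ⊥ (by
    rw [← RingHom.ker_eq_comap_bot, (RingHom.injective_iff_ker_eq_bot _).1 hinj]
    exact bot_le)
  have hcB : c.comap (algebraMap B N) = p := by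
    rw [IsScalarTower.algebraMap_eq B B₀ N, ← Ideal.comap_comap, hcp]
    exact hp₀c
  haveI : Algebra.IsIntegral B N := Algebra.IsIntegral.trans B₀
  -- no prime strictly inside `c` but `⊥`
  have hbelow : ∀ r : Ideal N, r.IsPrime → r ≤ c → r = ⊥ ∨ r = c := by
    intro r hr hle
    have h0 := eq_or_eq_of_forall_mem (Ideal.Quotient.mk q f₂)
      (fun h => hf₂ (Ideal.Quotient.eq_zero_iff_mem.1 h)) p₀ (fun s hs hsp hs0 => by
        by_contra hn
        have e := h₂ (s.comap (Ideal.Quotient.mk q)) (Ideal.comap_isPrime _ _)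
          (hp₀c ▸ Ideal.comap_mono hsp) (Ideal.mk_ker.ge.trans (Ideal.ker_le_comap _)) hn
        refine hs0 ?_
        rw [← Ideal.map_comap_of_surjective _ Ideal.Quotient.mk_surjective s, e, Ideal.map_quotient_self])
      (r.comap (algebraMap B₀ N)) (hcp ▸ Ideal.comap_mono hle)
    rcases h0 with h0 | h0
    · exact Or.inl (Ideal.eq_bot_of_comap_eq_bot h0)
    · right
      by_contra hne
      obtain ⟨x, hxc, hxr⟩ := SetLike.exists_of_lt (lt_of_le_of_ne hle hne)
      exact (Ideal.comap_lt_comap_of_integral_mem_sdiff hle ⟨hxc, hxr⟩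
        (Algebra.IsIntegral.isIntegral x)).ne (h0.trans hcp.symm)
  have habove : ∀ r : Ideal N, r.IsPrime → c ≤ r → algebraMap B N f₁ ∉ r → r = c := by
    intro r hr hle hfr
    have e := h₁ (r.comap (algebraMap B N)) (Ideal.comap_isPrime _ _) (hcB ▸ Ideal.comap_mono hle) hfr
    by_contra hne
    obtain ⟨x, hxr, hxc⟩ := SetLike.exists_of_lt (lt_of_le_of_ne hle (Ne.symm hne))
    exact (Ideal.comap_lt_comap_of_integral_mem_sdiff hle ⟨hxr, hxc⟩
      (Algebra.IsIntegral.isIntegral x)).ne (hcB.trans e.symm)
  -- a common denominator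
  obtain ⟨gens, hgens⟩ := (Algebra.FiniteType.out : (⊤ : Subalgebra B A).FG)
  obtain ⟨⟨u, hu⟩, hden⟩ :=
    IsLocalization.exist_integer_multiples_of_finset (nonZeroDivisors N) (gens.image j)
  have hu0 : u ≠ 0 := nonZeroDivisors.ne_zero hu
  -- isolate `c` inside `V(u)`
  have hfin : (Ideal.span {u}).minimalPrimes.Finite :=
    haveI : IsNoetherianRing N := IsNoetherianRing.of_finite B₀ N
    Ideal.finite_minimalPrimes_of_isNoetherianRing N _
  have hpick : ∀ t ∈ hfin.toFinset.erase c, ∃ x ∈ t, x ∉ c := by
    intro t ht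
    obtain ⟨htc, ht⟩ := Finset.mem_erase.1 ht
    rw [Set.Finite.mem_toFinset] at ht
    by_contra! hn
    rcases hbelow t ht.1.1 hn with h | h
    · exact hu0 (by simpa [h] using (Ideal.span_singleton_le_iff_mem _).1 ht.1.2)
    · exact htc h
  choose! x hx hxc using hpick
  let g : N := algebraMap B N f₁ * ∏ t ∈ hfin.toFinset.erase c, x t
  have hgc : g ∉ c := by
    intro h
    rcases hc.mem_or_mem h with h | h
    · exact hf₁ (hcB ▸ h)
    · obtain ⟨t, ht, htx⟩ := hc.prod_mem_iff.1 h
      exact hxc t ht htx
  let C := Localization.Away g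
  have hg0 : g ≠ 0 := fun h => hgc (h ▸ c.zero_mem)
  have hle : Submonoid.powers g ≤ nonZeroDivisors N :=
    Submonoid.powers_le.2 (mem_nonZeroDivisors_of_ne_zero hg0)
  haveI : IsDomain C := IsLocalization.isDomain_localization hle
  haveI : IsIntegrallyClosed C := isIntegrallyClosed_of_isLocalization C (Submonoid.powers g) hle
  haveI : IsNoetherianRing N := IsNoetherianRing.of_finite B₀ N
  have hcd : Disjoint (Submonoid.powers g : Set N) (c : Set N) := by
    rw [Set.disjoint_left]
    rintro _ ⟨n, rfl⟩ h
    exact hgc (hc.mem_of_pow_mem n h)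
  let cC : PrimeSpectrum C := ⟨c.map (algebraMap N C),
    IsLocalization.isPrime_of_isPrime_disjoint (Submonoid.powers g) C c hc hcd⟩
  have hcC : cC.asIdeal.comap (algebraMap N C) = c :=
    IsLocalization.comap_map_of_isPrime_disjoint (Submonoid.powers g) C hc hcd
  have hprime : ∀ r : Ideal C, r.IsPrime → (r.comap (algebraMap N C)).IsPrime ∧
      g ∉ r.comap (algebraMap N C) := fun r hr =>
    ⟨Ideal.comap_isPrime _ _, fun h => hr.ne_top (Ideal.eq_top_of_isUnit_mem _ h
      (IsLocalization.map_units _ (⟨g, 1, pow_one g⟩ : Submonoid.powers g)))⟩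
  have hinjC : Function.Injective (algebraMap N C) := IsLocalization.injective C hle
  have hkerC : RingHom.ker (algebraMap B C) = q := by
    rw [IsScalarTower.algebraMap_eq B N C, RingHom.ker_comp_of_injective _ hinjC]
    exact hkerN
  have hcC0 : cC.asIdeal ≠ ⊥ := by
    intro e
    have h1 : cC.asIdeal.comap (algebraMap B C) = q := by rw [e, ← RingHom.ker_eq_comap_bot, hkerC]
    rw [IsScalarTower.algebraMap_eq B N C, ← Ideal.comap_comap, hcC, hcB] at h1
    exact hqp.ne h1.symm
  haveI : IsNoetherianRing C := IsLocalization.isNoetherianRing (Submonoid.powers g) C ‹_›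
  have hmc : ∀ r : Ideal C, (r.comap (algebraMap N C)).map (algebraMap N C) = r := fun r =>
    IsLocalization.map_comap (Submonoid.powers g) C r
  have hheight : cC.asIdeal.height = 1 := by
    refine le_antisymm ?_ ?_
    · obtain ⟨a, ha, ha0⟩ := Submodule.exists_mem_ne_zero_of_ne_bot hcC0
      refine Ideal.height_le_one_of_isPrincipal_of_mem_minimalPrimes (Ideal.span {a}) _
        ⟨⟨cC.2, (Ideal.span_singleton_le_iff_mem _).2 ha⟩, fun r hr hle => ?_⟩
      obtain ⟨hr', -⟩ := hprime r hr.1
      rcases hbelow _ hr' (hcC ▸ Ideal.comap_mono hle) with h | h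
      · exfalso
        have h0 : r = ⊥ := by
          rw [← hmc r, h, Ideal.map_bot]
        exact ha0 (by simpa [h0] using (Ideal.span_singleton_le_iff_mem _).1 hr.2)
      · exact (show cC.asIdeal = r by
          rw [← hmc r, h]).le
    · haveI : (⊥ : Ideal C).IsPrime := Ideal.isPrime_bot
      haveI := cC.2
      have := Ideal.height_strict_mono_of_isPrime_of_isPrime (bot_lt_iff_ne_bot.2 hcC0)
      exact Order.one_le_iff_pos.2 (lt_of_le_of_lt bot_le this)
  have hu_spec : ∀ r : PrimeSpectrum C, r ≠ cC → algebraMap N C u ∉ r.asIdeal := by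
    intro r hne hur
    obtain ⟨hr', hgr⟩ := hprime r.asIdeal r.2
    obtain ⟨t, ht, htr⟩ := Ideal.exists_minimalPrimes_le
      (show Ideal.span {u} ≤ r.asIdeal.comap (algebraMap N C) from
        (Ideal.span_singleton_le_iff_mem _).2 hur)
    by_cases htc : t = c
    · subst htc
      refine hne (PrimeSpectrum.ext ?_)
      have h := habove _ hr' htr fun h => hgr (Ideal.mul_mem_right _ _ h)
      rw [← hmc r.asIdeal, h]
    · have hmem : t ∈ hfin.toFinset.erase c := Finset.mem_erase.2 ⟨htc, hfin.mem_toFinset.2 ht⟩
      exact hgr (Ideal.mul_mem_left _ _ (Ideal.mem_of_dvd _ (Finset.dvd_prod_of_mem _ hmem)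
        (htr (hx t hmem))))
  have hcmax : cC.asIdeal.IsMaximal := by
    obtain ⟨M, hM, hMle⟩ := Ideal.exists_le_maximal _ cC.2.ne_top
    obtain ⟨hM', hgM⟩ := hprime M hM.isPrime
    have h := habove _ hM' (hcC ▸ Ideal.comap_mono hMle) fun h => hgM (Ideal.mul_mem_right _ _ h)
    rw [show cC.asIdeal = M by rw [← hmc M, h]]
    exact hM
  -- the lift of the punctured curve
  let ιC : C →ₐ[N] L := IsLocalization.liftAlgHom (M := Submonoid.powers g) (S := C)
    (f := Algebra.ofId N L) fun y => isUnit_iff_ne_zero.2 ((map_ne_zero_iff _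
      (IsFractionRing.injective N L)).2 (nonZeroDivisors.ne_zero (hle y.2)))
  have hιC : Function.Injective ιC := by
    show Function.Injective (IsLocalization.lift (M := Submonoid.powers g) (S := C) _)
    exact (IsLocalization.lift_injective_iff _).2 fun a b =>
      ⟨fun e => congrArg _ (hinjC e), fun e => congrArg _ (IsFractionRing.injective N L e)⟩
  let uC : C := algebraMap N C u
  have huC : ιC uC ≠ 0 := by
    rw [AlgHom.commutes]
    exact (map_ne_zero_iff _ (IsFractionRing.injective N L)).2 hu0
  let ιU : Localization.Away uC →ₐ[B] L := IsLocalization.liftAlgHom (M := Submonoid.powers uC)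
    (f := ιC.restrictScalars B) fun y => by
      obtain ⟨_, n, rfl⟩ := y
      exact isUnit_iff_ne_zero.2 (by rw [map_pow]; exact pow_ne_zero n huC)
  have hιU : Function.Injective ιU := by
    show Function.Injective (IsLocalization.lift (M := Submonoid.powers uC) _)
    refine (IsLocalization.lift_injective_iff _).2 fun a b => ?_
    have hle' : Submonoid.powers uC ≤ nonZeroDivisors C := Submonoid.powers_le.2
      (mem_nonZeroDivisors_of_ne_zero fun h => huC (by rw [h, map_zero]))
    exact ⟨fun e => congrArg _ ((IsLocalization.injective (Localization.Away uC) hle') e),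
      fun e => congrArg _ (hιC e)⟩
  have hju : ∀ a : A, j a ∈ ιU.range := by
    intro a
    have ha : a ∈ Algebra.adjoin B (gens : Set A) := hgens ▸ Algebra.mem_top
    induction ha using Algebra.adjoin_induction with
    | mem y hy =>
      obtain ⟨v, hv⟩ := hden (j y) (Finset.mem_image_of_mem _ (Finset.mem_coe.1 hy))
      refine ⟨IsLocalization.mk' (Localization.Away uC) (algebraMap N C v) (⟨uC, Submonoid.mem_powers _⟩ : Submonoid.powers uC), ?_⟩
      show IsLocalization.lift _ (IsLocalization.mk' (Localization.Away uC) _ _) = j y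
      rw [IsLocalization.lift_mk'_spec]
      show ιC (algebraMap N C v) = ιC uC * j y
      rw [AlgHom.commutes, AlgHom.commutes]
      exact hv.trans (Algebra.smul_def _ _)
    | algebraMap b => exact ⟨algebraMap B _ b, (ιU.commutes b).trans (j.commutes b).symm⟩
    | add y w _ _ hy hw => rw [map_add]; exact add_mem hy hw
    | mul y w _ _ hy hw => rw [map_mul]; exact mul_mem hy hw
  let θ : A →ₐ[B] Localization.Away uC :=
    (AlgEquiv.ofInjective ιU hιU).symm.toAlgHom.comp (j.codRestrict ιU.range hju)
  exact ⟨{
    C := C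
    finiteType := Algebra.FiniteType.trans (S := N) inferInstance (IsLocalization.finiteType_of_monoid_fg (Submonoid.powers g) C)
    c := cC
    comap_c := by rw [IsScalarTower.algebraMap_eq B N C, ← Ideal.comap_comap, hcC, hcB]
    ker_eq := hkerC
    isMaximal := hcmax
    height := hheight
    u := uC
    u_spec := hu_spec
    θ := θ }⟩

end Groth.Agent.Lib.DvrCrit
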